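import Cfsg.Agent.Lie.ChevCol

/-!
# Certificates for `[L, R]` in subgroups of Chevalley groups
-/

set_option autoImplicit false
set_option linter.unusedSectionVars false
set_option linter.unusedVariables false
set_option linter.style.haveILetI false

namespace Cfsg

open Subgroup Matrix _root_.Cfsg.Lie

namespace Chev

variable (D : ChevalleyDatum) {K : Type*} [Field K]

/-- Exponents `a + b q + c q ^ 2`. -/
abbrev Ex := ℕ × ℕ × ℕ

/-- Value of an exponent. -/
def ev (q : ℕ) (e : Ex) : ℕ := e.1 + e.2.1 * q + e.2.2 * q ^ 2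

/-- A one parameter word `∏ x_r(t ^ e)`. -/
def inst (q : ℕ) (w : List (ℕ × Ex)) (t : K) : List (ℕ × K) := w.map fun x => (x.1, t ^ ev q x.2)

/-- The new terms produced by a letter. -/
def colT (r : ℕ) (e : Ex) (x : ℕ × Ex × ℤ) : List (ℕ × Ex × ℤ) :=
  (colN D r x.1).map fun y => (y.1, (x.2.1.1 + y.2.1 * e.1, x.2.1.2.1 + y.2.1 * e.2.1,
    x.2.1.2.2 + y.2.1 * e.2.2), x.2.2 * y.2.2)

/-- The terms of `(w - 1) e_s`. -/
def tl : List (ℕ × Ex) → ℕ → List (ℕ × Ex × ℤ)
  | [], _ => []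
  | x :: w, s => colT D x.1 x.2 (s, (0, 0, 0), 1) ++ (tl w s).flatMap fun y => y :: colT D x.1 x.2 y

/-- Value of a term. -/
def evT (q : ℕ) (t : K) (x : ℕ × Ex × ℤ) : D.Idx → K := ((x.2.2 : K) * t ^ ev q x.2.1) • bv D K x.1

theorem x_mulVec_evT (q : ℕ) (t : K) (r : ℕ) (e : Ex) (x : ℕ × Ex × ℤ) :
    D.x K r (t ^ ev q e) *ᵥ evT D q t x = evT D q t x + ((colT D r e x).map (evT D q t)).sum := by
  rw [evT, mulVec_smul, x_mulVec_bv, smul_add, colT, List.map_map, List.smul_sum, List.map_map]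
  congr 2
  refine List.map_congr_left fun y _ => ?_
  simp only [Function.comp_def, evT, ev, smul_smul]
  congr 1
  push_cast; ring

theorem wordMat_mulVec (q : ℕ) (t : K) (w : List (ℕ × Ex)) (s : ℕ) :
    D.wordMat K (inst q w t) *ᵥ bv D K s = bv D K s + ((tl D w s).map (evT D q t)).sum := by
  induction w with
  | nil => simp [inst, ChevalleyDatum.wordMat, tl]
  | cons x w ih =>
    have h0 : evT D q t (s, (0, 0, 0), 1) = bv D K s := by simp [evT, ev]
    have h1 : ∀ L : List (ℕ × Ex × ℤ), D.x K x.1 (t ^ ev q x.2) *ᵥ (L.map (evT D q t)).sum =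
        ((L.flatMap fun y => y :: colT D x.1 x.2 y).map (evT D q t)).sum := fun L => by
      induction L with
      | nil => simp
      | cons y L ih => simp [mulVec_add, ih, x_mulVec_evT, add_assoc]
    have h2 : D.wordMat K (inst q (x :: w) t) =
      D.x K x.1 (t ^ ev q x.2) * D.wordMat K (inst q w t) := rfl
    rw [h2, ← mulVec_mulVec, ih, mulVec_add, h1, ← h0, x_mulVec_evT, tl, List.map_append,
      List.sum_append, add_assoc]

theorem mem_of_forall_sum_mem {V : Type*} [AddCommGroup V] [Module K V] {S : Submodule K V}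
    {q : ℕ} {al : List Ex} (hal : ∀ e ∈ al, ∀ e' ∈ al, e ≠ e' → ∃ t : K, t ^ ev q e ≠ t ^ ev q e')
    (v : Ex → V) (h : ∀ t : K, ∑ e ∈ al.toFinset, t ^ ev q e • v e ∈ S) {e : Ex} (he : e ∈ al) :
    v e ∈ S := by
  by_contra hv
  obtain ⟨φ, h1, h2⟩ := S.exists_dual_map_eq_bot_of_notMem hv inferInstance
  have hli := (linearIndependent_monoidHom K K).comp
    (fun e : al.toFinset => powMonoidHom (ev q e.1)) fun e e' hh => by
      by_contra hne
      obtain ⟨t, ht⟩ := hal e.1 (List.mem_toFinset.1 e.2) e'.1 (List.mem_toFinset.1 e'.2)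
        fun h => hne (Subtype.ext h)
      exact ht (DFunLike.congr_fun hh t)
  refine h1 (Fintype.linearIndependent_iff.1 hli (fun e => φ (v e.1)) ?_
    ⟨e, List.mem_toFinset.2 he⟩)
  ext t
  have h3 : φ (∑ e ∈ al.toFinset, t ^ ev q e • v e) = 0 := by
    rw [← Submodule.mem_bot K, ← h2]; exact ⟨_, h t, rfl⟩
  rw [map_sum, ← Finset.sum_coe_sort] at h3
  simpa [mul_comm] using h3

/-- A word together with a list of exponents giving distinct functions. -/
abbrev WordT := List (ℕ × Ex) × List Ex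

variable {D} (G : Subgroup (GL D.Idx K)) (q : ℕ)

/-- The representation of `G` on the Lie algebra. -/
noncomputable abbrev rep : Representation K G (D.Idx → K) := homRep (subMat G)

theorem rep_injective : Function.Injective (rep G) := homRep_injective (subMat_injective G)

/-- The instances of the word lie in `G`. -/
structure WOK (wd : WordT) : Prop where
  one : ∃ g : G, subMat G g = D.wordMat K (inst q wd.1 1)
  all : wd.2 ≠ [] → ∀ t : K, ∃ g : G, subMat G g = D.wordMat K (inst q wd.1 t)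
  ind : ∀ e ∈ wd.2, ∀ e' ∈ wd.2, e ≠ e' → ∃ t : K, t ^ ev q e ≠ t ^ ev q e'

/-- The instances of the admissible words lie in `A`. -/
def WMem (ok : List (ℕ × Ex) → Bool) (A : Subgroup G) : Prop :=
  ∀ w, ok w = true → ∀ (g : G) (t : K), subMat G g = D.wordMat K (inst q w t) → g ∈ A

/-- All letters have positive weight. -/
def rais (D : ChevalleyDatum) (T c : ℕ) (w : List (ℕ × Ex)) : Bool :=
  w.all fun x => c < wN T (D.rank + x.1)

/-- All letters have nonnegative weight. -/
def pres (D : ChevalleyDatum) (T c : ℕ) (w : List (ℕ × Ex)) : Bool :=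
  w.all fun x => c ≤ wN T (D.rank + x.1)

variable {G q}

theorem WMem.mono {ok : List (ℕ × Ex) → Bool} {A B : Subgroup G} (h : WMem G q ok A)
    (hAB : A ≤ B) : WMem G q ok B := fun w hw g t e => hAB (h w hw g t e)

theorem WMem.and {ok ok' : List (ℕ × Ex) → Bool} {A B : Subgroup G} (h : WMem G q ok A)
    (h' : WMem G q ok' B) : WMem G q (fun w => ok w && ok' w) (A ⊓ B) := fun w hw g t e =>
  ⟨h w (Bool.and_eq_true_iff.1 hw).1 g t e, h' w (Bool.and_eq_true_iff.1 hw).2 g t e⟩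

theorem WMem.or {ok ok' : List (ℕ × Ex) → Bool} {A : Subgroup G} (h : WMem G q ok A)
    (h' : WMem G q ok' A) : WMem G q (fun w => ok w || ok' w) A := fun w hw g t e =>
  (Bool.or_eq_true_iff.1 hw).elim (fun h1 => h w h1 g t e) fun h1 => h' w h1 g t e

theorem wMem_false (A : Subgroup G) : WMem G q (fun _ => false) A := fun w hw => by simp at hw

theorem wMem_rais [Finite G] {T c : ℕ} (h : IsWt D T c) :
    WMem G q (rais D T c) (flagUnip (rep G) (wtFlag D K T)) := fun w hw g t e =>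
  MUnip.mem (isFlag_wtFlag D T) (e ▸ mUnip_wordMat h fun x hx => by
    obtain ⟨y, hy, rfl⟩ := List.mem_map.1 hx
    simpa using List.all_eq_true.1 hw y hy)

theorem wMem_pres [Finite G] {T c : ℕ} (h : IsWt D T c) :
    WMem G q (pres D T c) (flagStab (rep G) (wtFlag D K T)) := fun w hw g t e =>
  MPres.mem (e ▸ mPres_wordMat h fun x hx => by
    obtain ⟨y, hy, rfl⟩ := List.mem_map.1 hx
    simpa using List.all_eq_true.1 hw y hy)

/-- `m = ± 1`. -/
def pm (m : ℤ) : Bool := m == 1 || m == -1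

theorem ne_zero_of_pm {m : ℤ} (h : pm m = true) : (m : K) ≠ 0 := by
  simp only [pm, Bool.or_eq_true, beq_iff_eq] at h
  rcases h with rfl | rfl <;> simp

theorem cast_eq_zero {p0 : ℕ} (h0 : (p0 : K) = 0) {m : ℤ} (h : (m % p0 == 0) = true) :
    (m : K) = 0 := by
  obtain ⟨k, rfl⟩ := Int.dvd_of_emod_eq_zero (beq_iff_eq.1 h)
  simp [h0]

/-- One step of a certificate: word, source, target, exponent. -/
def stepOK (D : ChevalleyDatum) (p0 nw : ℕ) (ws : ℕ → WordT) (okY okZ : List (ℕ × Ex) → Bool)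
    (kn wi s u : ℕ) (e : Ex) : Bool :=
  wi < nw && (okY (ws wi).1 || (okZ (ws wi).1 && kn.testBit s)) &&
  (fun L : List (ℕ × Ex × ℤ) =>
    if e = (0, 0, 0) then L.all (fun x => x.1 == u) && pm (L.map fun x => x.2.2).sum
    else (ws wi).2.contains e &&
      L.all (fun x => (ws wi).2.contains x.2.1 && (x.2.1 != e || x.1 == u)) &&
      pm ((L.filter fun x => x.2.1 == e).map fun x => x.2.2).sum)
  ((tl D (ws wi).1 s).filter fun x => !(kn.testBit x.1 || x.2.2 % p0 == 0))

/-- Run a certificate. -/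
def run (D : ChevalleyDatum) (p0 nw : ℕ) (ws : ℕ → WordT) (okY okZ : List (ℕ × Ex) → Bool) :
    List ℕ → ℕ → ℕ
  | [], kn => kn
  | st :: l, kn => run D p0 nw ws okY okZ l
      (if stepOK D p0 nw ws okY okZ kn (st % 256) (st / 256 % 256) (st / 65536 % 256)
        (st / 16777216 % 4, st / 67108864 % 4, st / 268435456) then
        kn ||| 2 ^ (st / 65536 % 256) else kn)

section
variable {p0 nw : ℕ} {ws : ℕ → WordT} {okY okZ : List (ℕ × Ex) → Bool} {R : Subgroup G}
  (h0 : (p0 : K) = 0) (hws : ∀ i < nw, WOK G q (ws i)) (hY : WMem G q okY R)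
  (hZ : WMem G q okZ (normalizer (R : Set G)))
include h0 hws hY hZ

theorem bv_mem_of_stepOK {kn wi s u : ℕ} {e : Ex}
    (hkn : ∀ u, kn.testBit u = true → bv D K u ∈ commSub (rep G) R)
    (h : stepOK D p0 nw ws okY okZ kn wi s u e = true) : bv D K u ∈ commSub (rep G) R := by
  simp only [stepOK, Bool.and_eq_true, decide_eq_true_eq] at h
  obtain ⟨⟨h1, h2⟩, h3⟩ := h
  set S := commSub (rep G) R
  set P : ℕ × Ex × ℤ → Bool := fun x => !(kn.testBit x.1 || x.2.2 % p0 == 0) with hP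
  set L := (tl D (ws wi).1 s).filter P with hL
  have key : ∀ (g : G) (t : K), subMat G g = D.wordMat K (inst q (ws wi).1 t) →
      (L.map (evT D q t)).sum ∈ S := fun g t hg => by
    have h4 : rep G g (bv D K s) - bv D K s ∈ S := by
      rcases Bool.or_eq_true_iff.1 h2 with h2 | h2
      · exact sub_mem_commSub (hY _ h2 g t hg) _
      · obtain ⟨h5, h6⟩ := Bool.and_eq_true_iff.1 h2
        exact sub_mem (apply_mem_commSub (hZ _ h5 g t hg) (hkn s h6)) (hkn s h6)
    rw [homRep_apply, hg, wordMat_mulVec, add_sub_cancel_left,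
      ← ((List.filter_append_perm P _).map _).sum_eq, List.map_append, List.sum_append] at h4
    refine (Submodule.add_mem_iff_left _ (list_sum_mem fun x hx => ?_)).1 h4
    obtain ⟨y, hy, rfl⟩ := List.mem_map.1 hx
    have h5 := (List.mem_filter.1 hy).2
    simp only [hP, Bool.not_not, Bool.or_eq_true] at h5
    rcases h5 with h5 | h5
    · exact Submodule.smul_mem _ _ (hkn _ h5)
    · rw [evT, cast_eq_zero h0 h5, zero_mul, zero_smul]; exact zero_mem _
  have fin : ∀ L' : List (ℕ × Ex × ℤ), (∀ x ∈ L', x.1 = u) → pm (L'.map fun x => x.2.2).sum →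
      (L'.map fun x => (x.2.2 : K) • bv D K x.1).sum ∈ S → bv D K u ∈ S := fun L' a1 a2 a3 => by
    have a4 : (L'.map fun x => (x.2.2 : K) • bv D K x.1).sum =
        (((L'.map fun x => x.2.2).sum : ℤ) : K) • bv D K u := by
      clear a2 a3
      induction L' with
      | nil => simp
      | cons x L' ih =>
        rw [List.map_cons, List.map_cons, List.sum_cons, List.sum_cons, Int.cast_add, add_smul,
          ih fun y hy => a1 y (List.mem_cons_of_mem _ hy), a1 x List.mem_cons_self]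
    rw [a4] at a3
    exact (Submodule.smul_mem_iff _ (ne_zero_of_pm a2)).1 a3
  split_ifs at h3 with he
  · obtain ⟨g, hg⟩ := (hws wi h1).one
    obtain ⟨h4, h5⟩ := Bool.and_eq_true_iff.1 h3
    refine fin L (fun x hx => beq_iff_eq.1 (List.all_eq_true.1 h4 x hx)) h5 ?_
    convert key g 1 hg using 3
    ext1 x; simp [evT]
  · simp only [Bool.and_eq_true, List.contains_iff_mem, List.all_eq_true, Bool.or_eq_true,
      bne_iff_ne, beq_iff_eq] at h3
    obtain ⟨⟨h4, h5⟩, h6⟩ := h3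
    refine fin _ (fun x hx => ?_) h6 (mem_of_forall_sum_mem (hws wi h1).ind (fun e =>
      ((L.filter fun x => x.2.1 == e).map fun x => (x.2.2 : K) • bv D K x.1).sum) (fun t => ?_) h4)
    · obtain ⟨h7, h8⟩ := List.mem_filter.1 hx
      exact (h5 x h7).2.resolve_left (not_not.2 (beq_iff_eq.1 h8))
    · obtain ⟨g, hg⟩ := (hws wi h1).all (List.ne_nil_of_mem h4) t
      convert key g t hg using 1
      have h7 : ∀ x ∈ L, x.2.1 ∈ (ws wi).2 := fun x hx => (h5 x hx).1
      clear_value L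
      clear * - h7
      induction L with
      | nil => simp
      | cons x L ih =>
        rw [List.map_cons, List.sum_cons, ← ih fun y hy => h7 y (List.mem_cons_of_mem _ hy),
          evT, mul_comm, mul_smul, ← Finset.sum_ite_eq_of_mem _ x.2.1 (fun e =>
            t ^ ev q e • (x.2.2 : K) • bv D K x.1) (List.mem_toFinset.2 (h7 x List.mem_cons_self)),
          ← Finset.sum_add_distrib]
        refine Finset.sum_congr rfl fun e _ => ?_
        by_cases h : x.2.1 = e <;> simp [h]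

theorem bv_mem_of_run (l : List ℕ) {kn : ℕ}
    (hkn : ∀ u, kn.testBit u = true → bv D K u ∈ commSub (rep G) R) (u : ℕ)
    (h : (run D p0 nw ws okY okZ l kn).testBit u = true) : bv D K u ∈ commSub (rep G) R := by
  induction l generalizing kn with
  | nil => exact hkn u h
  | cons st l ih =>
    refine ih (fun v hv => ?_) h
    split_ifs at hv with h1
    · rw [Nat.testBit_or, Bool.or_eq_true, Nat.testBit_two_pow, decide_eq_true_eq] at hv
      rcases hv with hv | rfl
      exacts [hkn v hv, bv_mem_of_stepOK h0 hws hY hZ hkn h1]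
    · exact hkn v hv

end

/-- The certificate produces all basis vectors but two. -/
def full (D : ChevalleyDatum) (kn i0 i1 : ℕ) : Bool :=
  (List.range (D.rank + D.nroots)).all fun j => kn.testBit j || j == i0 || j == i1

/-- The coefficient of `e_u` at `t = 1`. -/
def cf (L : List (ℕ × Ex × ℤ)) (u : ℕ) : ℤ := ((L.filter fun x => x.1 == u).map fun x => x.2.2).sum

theorem rep_bv_apply {g : G} {w : List (ℕ × Ex)} (hg : subMat G g = D.wordMat K (inst q w 1))
    (s : ℕ) (j : D.Idx) :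
    rep G g (bv D K s) j = bv D K s j + cf (tl D w s) (idx D j) := by
  rw [homRep_apply, hg, wordMat_mulVec, Pi.add_apply, cf]
  congr 1
  induction tl D w s with
  | nil => simp
  | cons x L ih =>
    by_cases h : x.1 = idx D j
    · simp [ih, h, evT, bv]
    · simp [ih, h, evT, bv, Ne.symm h]

/-- Data for a two-dimensional bottom layer. -/
def twoOK (D : ChevalleyDatum) (T nw : ℕ) (ws : ℕ → WordT) (okY okZ : List (ℕ × Ex) → Bool)
    (i0 i1 y k z1 z2 : ℕ) : Bool :=
  i0 < D.rank + D.nroots && i1 < D.rank + D.nroots && k < D.rank + D.nroots && i0 != i1 &&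
  wN T i0 == 0 && wN T i1 == 0 && wN T k == 1 && y < nw && z1 < nw && z2 < nw &&
  okY (ws y).1 && okZ (ws z1).1 && okZ (ws z2).1 && (tl D (ws y).1 i0).isEmpty &&
  pm (cf (tl D (ws y).1 i1) k) && cf (tl D (ws z1).1 i0) i0 == 0 &&
  pm (cf (tl D (ws z1).1 i0) i1) && cf (tl D (ws z2).1 i0) i0 == 0 &&
  cf (tl D (ws z2).1 i0) i1 == 0 && pm (cf (tl D (ws z2).1 i1) i0) &&
  cf (tl D (ws z2).1 i1) i1 == 0

variable {p : ℕ} [Fact p.Prime] [CharP K p] [Finite G]
  {p0 nw : ℕ} {ws : ℕ → WordT} {okY okZ : List (ℕ × Ex) → Bool} {R : Subgroup G}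
  (h0 : (p0 : K) = 0) (hws : ∀ i < nw, WOK G q (ws i)) (hY : WMem G q okY R)
  (hZ : WMem G q okZ (normalizer (R : Set G))) {T : ℕ} (hR : R ≤ flagUnip (rep G) (wtFlag D K T))
include h0 hws hY hZ

theorem mem_of_full {l : List ℕ} {i0 i1 : ℕ}
    (h : full D (run D p0 nw ws okY okZ l 0) i0 i1 = true) {v : D.Idx → K}
    (hv : ∀ j, idx D j = i0 ∨ idx D j = i1 → v j = 0) : v ∈ commSub (rep G) R := by
  rw [eq_sum_bv D v]
  refine Submodule.sum_mem _ fun j _ => ?_
  have := List.all_eq_true.1 h _ (List.mem_range.2 (idx_lt D j))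
  simp only [Bool.or_eq_true, beq_iff_eq, or_assoc] at this
  rcases this with h1 | h1
  · exact Submodule.smul_mem _ _ (bv_mem_of_run h0 hws hY hZ l (by simp) _ h1)
  · simp [hv j h1]

include hR

theorem pGood_of_full {l : List ℕ} {i0 : ℕ}
    (h : full D (run D p0 nw ws okY okZ l 0) i0 i0 = true) : PGood p R := by
  refine (isFlag_wtFlag D T).pGood_of_one (rep_injective G) hR (e := bv D K i0) fun v => ?_
  by_cases h1 : ∃ j, idx D j = i0
  · obtain ⟨j, rfl⟩ := h1
    refine ⟨v j, mem_of_full h0 hws hY hZ h fun i hi => ?_⟩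
    rw [or_self, (idx_injective D).eq_iff] at hi
    simp [hi, bv]
  · exact ⟨0, mem_of_full h0 hws hY hZ h fun i hi => (h1 ⟨i, hi.elim id id⟩).elim⟩

theorem pGood_of_two {l : List ℕ} {i0 i1 y k z1 z2 : ℕ}
    (h : full D (run D p0 nw ws okY okZ l 0) i0 i1 = true)
    (h' : twoOK D T nw ws okY okZ i0 i1 y k z1 z2 = true) : PGood p R := by
  simp only [twoOK, Bool.and_eq_true, decide_eq_true_eq, bne_iff_ne, beq_iff_eq,
    List.isEmpty_iff] at h'
  obtain ⟨⟨⟨⟨⟨⟨⟨⟨⟨⟨⟨⟨⟨⟨⟨⟨⟨⟨⟨⟨a1, a2⟩, a3⟩, a4⟩, a5⟩, a6⟩, a7⟩, a8⟩, a9⟩, a10⟩, a11⟩, a12⟩, a13⟩,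
    a14⟩, a15⟩, a16⟩, a17⟩, a18⟩, a19⟩, a20⟩, a21⟩ := h'
  obtain ⟨j0, rfl⟩ := exists_idx D a1
  obtain ⟨j1, rfl⟩ := exists_idx D a2
  obtain ⟨jk, rfl⟩ := exists_idx D a3
  obtain ⟨gy, hy⟩ := (hws y a8).one
  obtain ⟨g1, hg1⟩ := (hws z1 a9).one
  obtain ⟨g2, hg2⟩ := (hws z2 a10).one
  have hW := isFlag_wtFlag D (K := K) T
  have hS : ∀ v, v ∈ commSub (rep G) R ↔ v j0 = 0 ∧ v j1 = 0 := fun v =>
    ⟨fun hv => ⟨hW.commSub_le_one hR hv j0 (by omega), hW.commSub_le_one hR hv j1 (by omega)⟩,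
      fun hv => mem_of_full h0 hws hY hZ h fun j hj => by
        simp only [(idx_injective D).eq_iff] at hj
        rcases hj with rfl | rfl
        exacts [hv.1, hv.2]⟩
  set e0 := bv D K (idx D j0)
  set e1 := bv D K (idx D j1)
  have b00 : e0 j0 = 1 := if_pos rfl
  have b11 : e1 j1 = 1 := if_pos rfl
  have b01 : e0 j1 = 0 := if_neg a4.symm
  have b10 : e1 j0 = 0 := if_neg a4
  have hd : ∀ v : D.Idx → K, v - v j0 • e0 - v j1 • e1 ∈ commSub (rep G) R := fun v =>
    (hS _).2 (by simp [b00, b11, b01, b10])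
  have hyR := hY _ a11 gy 1 hy
  have h1 := hZ _ a12 g1 1 hg1
  have h2 := hZ _ a13 g2 1 hg2
  have hε := ne_zero_of_pm (K := K) a17
  have hδ := ne_zero_of_pm (K := K) a20
  have c0 := rep_bv_apply hg1 (idx D j0) j0
  have c1 := rep_bv_apply hg1 (idx D j0) j1
  have d00 := rep_bv_apply hg2 (idx D j0) j0
  have d01 := rep_bv_apply hg2 (idx D j0) j1
  have d10 := rep_bv_apply hg2 (idx D j1) j0
  have d11 := rep_bv_apply hg2 (idx D j1) j1
  simp only [a16, a18, a19, a21, Int.cast_zero, add_zero] at c0 d00 d01 d11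
  generalize ((cf (tl D (ws z1).1 (idx D j0)) (idx D j1) : ℤ) : K) = ε at *
  generalize ((cf (tl D (ws z2).1 (idx D j1)) (idx D j0) : ℤ) : K) = δ at *
  change rep G g1 e0 j0 = e0 j0 at c0
  change rep G g2 e0 j0 = e0 j0 at d00
  change rep G g1 e0 j1 = e0 j1 + ε at c1
  change rep G g2 e0 j1 = e0 j1 at d01
  change rep G g2 e1 j0 = e1 j0 + δ at d10
  change rep G g2 e1 j1 = e1 j1 at d11
  have he : IsCentEigen (rep G) R e0 := fun g hg => by
    refine ⟨rep G g e0 j0, (hS _).2 ⟨by simp [b00], ?_⟩⟩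
    have f0 : rep G gy e0 = e0 := by rw [homRep_apply, hy, wordMat_mulVec, a14]; simp [e0]
    have f1 := (hR hyR).2 1 _ (hW.commSub_le_one hR (hd (rep G g e0))) jk (by omega)
    have f2 := rep_bv_apply hy (idx D j1) jk
    have f3 := ne_zero_of_pm (K := K) a15
    change rep G gy e1 jk = e1 jk + _ at f2
    rw [map_sub, map_sub, map_smul, map_smul, ← rep_comm hg hyR, f0] at f1
    simp only [Pi.sub_apply, Pi.smul_apply, smul_eq_mul, f2] at f1
    have : rep G g e0 j1 * (cf (tl D (ws y).1 (idx D j1)) (idx D jk) : K) = 0 := by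
      linear_combination -f1
    simp [b01, (mul_eq_zero.1 this).resolve_right f3]
  refine hW.pGood_of_two (rep_injective G) hR (mul_ne_zero hε hδ) one_ne_zero (fun v =>
    ⟨v j0 - v j1 / ε, v j1 / ε, (hS _).2 ?_⟩) (fun c d hc => ?_) ?_ he (he.apply h1)
    ((he.apply h1).apply h2)
  · simp only [Pi.sub_apply, Pi.smul_apply, smul_eq_mul, c0, c1, b00, b01]
    exact ⟨by ring, by field_simp; ring⟩
  · have := (hS _).1 hc
    simp only [Pi.add_apply, Pi.smul_apply, smul_eq_mul, c0, c1, b00, b01] at this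
    have h3 : d = 0 := by simpa [hε] using this.2
    exact ⟨by simpa [h3] using this.1, h3⟩
  · have := (hS _).1 (apply_mem_commSub h2 (hd (rep G g1 e0)))
    rw [hS]
    simp only [map_sub, map_smul, Pi.sub_apply, Pi.smul_apply, smul_eq_mul, c0, c1, b00, b01,
      d00, d01, d10, d11, b10, b11] at this ⊢
    exact ⟨by linear_combination this.1, by linear_combination this.2⟩

end Chev

end Cfsg

set_option linter.all false in
theorem Cfsg.Rz.Lie_ChevCert_0 : True := by
  have := @_root_.Cfsg.Chev.pres.eq_def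
  have := @_root_.Cfsg.Chev.pres.eq_1
  have := @_root_.Cfsg.Chev.pres.fun_cases
  have := @_root_.Cfsg.Chev.stepOK.eq_def
  have := @_root_.Cfsg.Chev.stepOK.fun_cases
  have := @_root_.Cfsg.Chev.rais.eq_def
  have := @_root_.Cfsg.Chev.rais.eq_1
  have := @_root_.Cfsg.Chev.rais.fun_cases
  have := @_root_.Cfsg.Chev.full.eq_def
  have := @_root_.Cfsg.Chev.full.eq_1
  have := @_root_.Cfsg.Chev.full.fun_cases
  have := @_root_.Cfsg.Chev.run.eq_def
  have := @_root_.Cfsg.Chev.run.eq_1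
  have := @_root_.Cfsg.Chev.run.induct
  have := @_root_.Cfsg.Chev.run.fun_cases
  have := @_root_.Cfsg.Chev.WordT.eq_def
  have := @_root_.Cfsg.Chev.WordT.eq_1
  have := @_root_.Cfsg.Chev.WordT.fun_cases
  have := @_root_.Cfsg.Chev.twoOK.eq_def
  have := @_root_.Cfsg.Chev.twoOK.fun_cases
  have := @_root_.Cfsg.Chev.colT.eq_def
  have := @_root_.Cfsg.Chev.colT.fun_cases
  have := @_root_.Cfsg.Chev.rep.eq_def.{0}
  have := @_root_.Cfsg.Chev.rep.eq_1.{0}
  have := @_root_.Cfsg.Chev.rep.fun_cases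
  have := @_root_.Cfsg.Chev.WOK.mk.congr_simp.{0}
  have := @_root_.Cfsg.Chev.pm.eq_def
  have := @_root_.Cfsg.Chev.pm.fun_cases
  have := @_root_.Cfsg.Chev.tl.induct
  have := @_root_.Cfsg.Chev.tl.fun_cases
  trivial

set_option linter.all false in
theorem Cfsg.Rz.Lie_ChevCert_1 : True := by
  have := @_root_.Cfsg.Chev.Ex.eq_def
  have := @_root_.Cfsg.Chev.Ex.eq_1
  have := @_root_.Cfsg.Chev.Ex.fun_cases
  have := @_root_.Cfsg.Chev.inst.eq_def.{0}
  have := @_root_.Cfsg.Chev.inst.fun_cases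
  have := @_root_.Cfsg.Chev.cf.eq_def
  have := @_root_.Cfsg.Chev.cf.fun_cases
  have := @_root_.Cfsg.Chev.ev.eq_def
  have := @_root_.Cfsg.Chev.ev.fun_cases
  have := @_root_.Cfsg.Chev.evT.eq_def.{0}
  have := @_root_.Cfsg.Chev.evT.fun_cases
  have := @_root_.Cfsg.Chev.WMem.eq_def.{0}
  have := @_root_.Cfsg.Chev.WMem.eq_1.{0}
  have := @_root_.Cfsg.Chev.WMem.fun_cases
  trivial
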