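import Cfsg.Agent.Lie.Flag
import Cfsg.Prelude.Def_ChevWords

/-!
# Root elements of Chevalley groups acting on basis vectors; weight flags
-/

set_option autoImplicit false
set_option linter.unusedSectionVars false
set_option linter.unusedVariables false
set_option linter.style.haveILetI false

namespace Cfsg

open Subgroup Matrix _root_.Cfsg.Lie

section
variable {K : Type*} [Field K] {ι : Type*} [Fintype ι] [DecidableEq ι] {H : Type*} [Group H]

/-- The representation on column vectors given by a homomorphism to matrices. -/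
noncomputable def homRep (f : H →* Matrix ι ι K) : Representation K H (ι → K) :=
  (Matrix.toLinAlgEquiv' (R := K) (n := ι)).toAlgHom.toMonoidHom.comp f

theorem homRep_apply (f : H →* Matrix ι ι K) (g : H) (v : ι → K) : homRep f g v = f g *ᵥ v :=
  Matrix.toLinAlgEquiv'_apply _ _

theorem homRep_injective {f : H →* Matrix ι ι K} (hf : Function.Injective f) :
    Function.Injective (homRep f) := Matrix.toLinAlgEquiv'.injective.comp hf

/-- The matrix of an element of a subgroup of `GL`. -/
def subMat (G : Subgroup (GL ι K)) : G →* Matrix ι ι K := (Units.coeHom _).comp G.subtype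

theorem subMat_apply {G : Subgroup (GL ι K)} (g : G) : subMat G g = g.1.1 := rfl

theorem subMat_injective (G : Subgroup (GL ι K)) : Function.Injective (subMat G) :=
  fun _ _ h => Subtype.ext (Units.ext h)

variable {W : ℕ → Submodule K (ι → K)}

/-- The matrix preserves the flag. -/
def MPres (W : ℕ → Submodule K (ι → K)) (M : Matrix ι ι K) : Prop := ∀ i, ∀ v ∈ W i, M *ᵥ v ∈ W i

/-- The matrix acts trivially on the quotients of the flag. -/
def MUnip (W : ℕ → Submodule K (ι → K)) (M : Matrix ι ι K) : Prop :=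
  ∀ i, ∀ v ∈ W i, M *ᵥ v - v ∈ W (i + 1)

theorem MPres.one : MPres W 1 := fun i v hv => by rwa [one_mulVec]

theorem MPres.mul {M N : Matrix ι ι K} (hM : MPres W M) (hN : MPres W N) : MPres W (M * N) :=
  fun i v hv => by rw [← mulVec_mulVec]; exact hM _ _ (hN _ _ hv)

theorem MUnip.one : MUnip W 1 := fun i v hv => by simp

theorem MUnip.pres (hW : IsFlag W) {M : Matrix ι ι K} (hM : MUnip W M) : MPres W M :=
  fun i v hv => by simpa using add_mem (hW.anti i (hM i v hv)) hv

theorem MUnip.mul (hW : IsFlag W) {M N : Matrix ι ι K} (hM : MUnip W M) (hN : MUnip W N) :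
    MUnip W (M * N) := fun i v hv => by
  have := add_mem (hM.pres hW _ _ (hN i v hv)) (hM i v hv)
  rwa [mulVec_sub, sub_add_sub_cancel, mulVec_mulVec] at this

theorem MUnip.isUnit (hW : IsFlag W) {M : Matrix ι ι K} (hM : MUnip W M) : IsUnit M := by
  rw [← mulVec_injective_iff_isUnit]
  intro u v h
  have h1 : ∀ i, u - v ∈ W i := fun i => by
    induction i with
    | zero => rw [hW.zero]; trivial
    | succ i ih =>
      have := neg_mem (hM i _ ih)
      rwa [mulVec_sub, show M *ᵥ u = M *ᵥ v from h, sub_self, zero_sub, neg_neg] at this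
  obtain ⟨n, hn⟩ := hW.fin
  exact sub_eq_zero.1 (by simpa [hn] using h1 n)

variable [Finite H] {f : H →* Matrix ι ι K} {g : H}

theorem MPres.mem (h : MPres W (f g)) : g ∈ flagStab (homRep f) W :=
  mem_flagStab.2 fun i v hv => by rw [homRep_apply]; exact h i v hv

theorem MUnip.mem (hW : IsFlag W) (h : MUnip W (f g)) : g ∈ flagUnip (homRep f) W :=
  hW.mem_flagUnip.2 fun i v hv => by rw [homRep_apply]; exact h i v hv

end

namespace Chev

variable (D : ChevalleyDatum) {K : Type*} [Field K]

/-- Numbering of the basis. -/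
def idx : D.Idx → ℕ := Sum.elim (fun i => i.val) (fun r => D.rank + r.val)

theorem idx_injective : Function.Injective (idx D) := by
  rintro (i | i) (j | j) h <;> simp only [idx, Sum.elim_inl, Sum.elim_inr] at h
  · rw [Fin.ext h]
  · omega
  · omega
  · rw [Fin.ext (Nat.add_left_cancel h)]

theorem idx_lt (j : D.Idx) : idx D j < D.rank + D.nroots := by
  rcases j with j | j <;> simp only [idx, Sum.elim_inl, Sum.elim_inr] <;> omega

theorem exists_idx {u : ℕ} (h : u < D.rank + D.nroots) : ∃ j, idx D j = u := by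
  by_cases h1 : u < D.rank
  · exact ⟨.inl ⟨u, h1⟩, rfl⟩
  · exact ⟨.inr ⟨u - D.rank, by omega⟩, by simp only [idx, Sum.elim_inr]; omega⟩

/-- The chain part of a column. -/
def chainN (r s : ℕ) : List (ℕ × ℕ × ℤ) :=
  ((D.chain.getD r #[]).toList.filter (fun e => e.1 = s)).flatMap fun e =>
    e.2.toList.zipIdx.map fun q => (D.rank + q.1.1, q.2 + 1, q.1.2)

/-- `x_r(t) e_j = e_j + ∑ m t ^ k e_u` over the entries `(u, k, m)`. -/
def colN (r j : ℕ) : List (ℕ × ℕ × ℤ) :=
  if r < D.nroots then
    if j < D.rank then [(D.rank + r, 1, -((D.cartanSR.getD j #[]).getD r 0))]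
    else if j - D.rank < D.nroots then
      if j - D.rank = r then []
      else if j - D.rank = D.negIdx.getD r 0 then
        (List.range D.rank).map (fun i => (i, 1, (D.coroot.getD r #[]).getD i 0)) ++
          [(D.rank + r, 2, -1)]
      else chainN D r (j - D.rank)
    else []
  else []

/-- Basis vectors. -/
def bv (K : Type*) [Field K] (u : ℕ) : D.Idx → K := fun i => if idx D i = u then 1 else 0

theorem bv_idx (j : D.Idx) : bv D K (idx D j) = Pi.single j 1 := by
  ext i; simp [bv, (idx_injective D).eq_iff, Pi.single_apply]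

theorem eq_sum_bv (v : D.Idx → K) : v = ∑ j, v j • bv D K (idx D j) := by
  simp only [bv_idx]; exact pi_eq_sum_univ' v

theorem sum_smul_bv_apply {α : Type*} (L : List α) (c : α → K) (u : α → ℕ) (i : D.Idx) :
    (L.map fun y => c y • bv D K (u y)).sum i =
      (L.map fun y => if idx D i = u y then c y else 0).sum := by
  induction L with
  | nil => rfl
  | cons y L ih => simp [ih, bv]

theorem list_sum_flatMap_congr {α β γ M : Type*} [AddCommMonoid M] (l : List α)
    {f : α → List β} {f' : α → List γ} {g : β → M} {g' : γ → M}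
    (h : ∀ e, ((f e).map g).sum = ((f' e).map g').sum) :
    ((l.flatMap f).map g).sum = ((l.flatMap f').map g').sum := by
  induction l with
  | nil => rfl
  | cons y L ih => simp [List.flatMap_cons, ih, h]

theorem list_sum_filter {α M : Type*} [AddCommMonoid M] (l : List α) (P : α → Bool) (g : α → M) :
    ((l.filter P).map g).sum = (l.map fun x => if P x then g x else 0).sum := by
  induction l with
  | nil => rfl
  | cons y L ih => by_cases h : P y <;> simp [h, ih]

theorem xMat_apply (r : Fin D.nroots) (t : K) (i j : D.Idx) :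
    D.xMat K r t i j = bv D K (idx D j) i +
      ((colN D r (idx D j)).map fun y =>
        if idx D i = y.1 then (y.2.2 : K) * t ^ y.2.1 else 0).sum := by
  rw [bv_idx, colN, if_pos r.2]
  rcases j with j | s
  · rw [if_pos (show idx D (.inl j) < D.rank from j.2)]
    rcases i with i | u
    · have : (i : ℕ) ≠ D.rank + r := by omega
      simp [ChevalleyDatum.xMat, idx, this, Pi.single_apply]
    · simp [ChevalleyDatum.xMat, idx, Fin.ext_iff]
  have e1 : idx D (.inr s) - D.rank = s := by simp [idx]
  rw [if_neg (by simp [idx]), e1, if_pos s.2]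
  by_cases h1 : s = r
  · subst h1
    rcases i with i | u <;> simp [ChevalleyDatum.xMat, Pi.single_apply]
  rw [if_neg (fun h => h1 (Fin.ext h))]
  by_cases h2 : s.val = D.negIdx.getD r 0
  · rw [if_pos h2]
    rcases i with i | u
    · have h3 : (i : ℕ) ≠ D.rank + r := by omega
      have h4 : ((List.range D.rank).map fun x : ℕ => if (i : ℕ) = x then
          (((D.coroot.getD r #[]).getD x 0 : ℤ) : K) * t else 0).sum =
          (((D.coroot.getD r #[]).getD i 0 : ℤ) : K) * t := by
        rw [← List.sum_toFinset _ List.nodup_range, Finset.sum_ite_eq, if_pos (by simp)]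
      simp only [ChevalleyDatum.xMat, of_apply, if_neg h1, if_pos h2, idx, Sum.elim_inl,
        List.map_append, List.map_map, List.sum_append, Function.comp_def, pow_one, h4]
      simp [h3]
    · have h4 : ((List.range D.rank).map fun x : ℕ => if D.rank + (u : ℕ) = x then
          (((D.coroot.getD r #[]).getD x 0 : ℤ) : K) * t else 0).sum = 0 :=
        List.sum_eq_zero fun x hx => by
          obtain ⟨y, hy, rfl⟩ := List.mem_map.1 hx
          rw [if_neg (by have := List.mem_range.1 hy; omega)]
      simp only [ChevalleyDatum.xMat, of_apply, if_neg h1, if_pos h2, idx, Sum.elim_inr,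
        List.map_append, List.map_map, List.sum_append, Function.comp_def, pow_one, h4]
      by_cases h5 : u = s
      · subst h5
        have : (u : ℕ) ≠ r := fun h => h1 (Fin.ext h)
        simp [this]
      · simp [h5, Fin.ext_iff]
  rw [if_neg h2]
  rcases i with i | u
  · simp only [ChevalleyDatum.xMat, of_apply, if_neg h1, if_neg h2]
    rw [List.sum_eq_zero]
    · simp
    · intro x hx
      obtain ⟨y, hy, rfl⟩ := List.mem_map.1 hx
      obtain ⟨e, -, hy⟩ := List.mem_flatMap.1 hy
      obtain ⟨q, -, rfl⟩ := List.mem_map.1 hy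
      rw [if_neg (by simp only [idx, Sum.elim_inl]; omega)]
  · simp only [ChevalleyDatum.xMat, of_apply, if_neg h1, if_neg h2]
    congr 1
    · simp [Pi.single_apply]
    · refine list_sum_flatMap_congr _ fun e => ?_
      rw [List.map_map, List.map_map, list_sum_filter]
      simp [idx, Function.comp_def, eq_comm]

theorem x_mulVec_bv (r : ℕ) (t : K) (u : ℕ) : D.x K r t *ᵥ bv D K u = bv D K u +
    ((colN D r u).map fun y => ((y.2.2 : K) * t ^ y.2.1) • bv D K y.1).sum := by
  by_cases hr : r < D.nroots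
  swap
  · simp [ChevalleyDatum.x, hr, colN]
  by_cases hu : u < D.rank + D.nroots
  · obtain ⟨j, rfl⟩ := exists_idx D hu
    ext i
    rw [Pi.add_apply, sum_smul_bv_apply, ← xMat_apply D ⟨r, hr⟩, bv_idx, mulVec_single_one,
      ChevalleyDatum.x, dif_pos hr]
    rfl
  · have : bv D K u = 0 := funext fun i => if_neg (by have := idx_lt D i; omega)
    rw [this, colN, if_pos hr, if_neg (by omega), if_neg (by omega)]
    simp

theorem x_zero (r : ℕ) (h : ∀ j, ∀ y ∈ colN D r j, 1 ≤ y.2.1) : D.x K r 0 = 1 := by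
  ext i j
  have := congrFun (x_mulVec_bv D r (0 : K) (idx D j)) i
  rw [List.sum_eq_zero, bv_idx, mulVec_single_one] at this
  · simpa [Pi.single_apply, one_apply] using this
  · intro x hx
    obtain ⟨y, hy, rfl⟩ := List.mem_map.1 hx
    rw [zero_pow (by have := h _ y hy; omega), mul_zero, zero_smul]

/-! ### Weights -/

/-- Entry `u` of a table of bytes. -/
def wN (T u : ℕ) : ℕ := (T >>> (8 * u)) % 256

/-- `wN T - c` is additive on the root system. -/
def IsWt (T c : ℕ) : Prop := ∀ r j, ∀ y ∈ colN D r j,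
  1 ≤ y.2.1 ∧ wN T y.1 + y.2.1 * c = wN T j + y.2.1 * wN T (D.rank + r)

/-- Decidable form of `IsWt`. -/
def wtCheck (T c : ℕ) : Bool :=
  (List.range D.rank).all (fun i => wN T i == c) &&
  (List.range D.nroots).all
    (fun r => wN T (D.rank + D.negIdx.getD r 0) + wN T (D.rank + r) == 2 * c) &&
  D.chain.toList.zipIdx.all fun row => row.1.toList.all fun e => e.2.toList.zipIdx.all fun q =>
    wN T (D.rank + q.1.1) + (q.2 + 1) * c ==
      wN T (D.rank + e.1) + (q.2 + 1) * wN T (D.rank + row.2)

theorem isWt_of_check {T c : ℕ} (h : wtCheck D T c = true) : IsWt D T c := by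
  simp only [wtCheck, Bool.and_eq_true, List.all_eq_true, List.mem_range, beq_iff_eq] at h
  obtain ⟨⟨h1, h2⟩, h3⟩ := h
  intro r j y hy
  unfold colN at hy
  split_ifs at hy with c1 c2 c3 c4 c5
  · rw [List.mem_singleton.1 hy]; simp [h1 j c2, add_comm]
  · simp at hy
  · have h4 := h2 r c1
    rw [← c5, Nat.add_sub_cancel' (not_lt.1 c2)] at h4
    rcases List.mem_append.1 hy with hy | hy
    · obtain ⟨i, hi, rfl⟩ := List.mem_map.1 hy
      have := h1 i (List.mem_range.1 hi)
      simp only; omega
    · rw [List.mem_singleton.1 hy]; simp only; omega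
  · obtain ⟨e, he, hy⟩ := List.mem_flatMap.1 hy
    obtain ⟨q, hq, rfl⟩ := List.mem_map.1 hy
    obtain ⟨he, hs⟩ := List.mem_filter.1 he
    have hr : r < D.chain.size := by
      by_contra hr
      simp [Array.getD, hr] at he
    have := h3 (D.chain[r], r) (by rw [List.mem_zipIdx_iff_getElem?]; simp [hr]) e
      (by simpa [Array.getD, hr] using he) q hq
    rw [of_decide_eq_true hs, Nat.add_sub_cancel' (not_lt.1 c2)] at this
    exact ⟨by simp, this⟩
  · simp at hy
  · simp at hy

/-- The flag of a weight. -/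
def wtFlag (K : Type*) [Field K] (T : ℕ) (i : ℕ) : Submodule K (D.Idx → K) where
  carrier := {v | ∀ j, wN T (idx D j) < i → v j = 0}
  add_mem' {a b} ha hb j hj := by rw [Pi.add_apply, ha j hj, hb j hj, add_zero]
  zero_mem' j hj := rfl
  smul_mem' c v hv j hj := by rw [Pi.smul_apply, hv j hj, smul_zero]

theorem isFlag_wtFlag (T : ℕ) : IsFlag (wtFlag D K T) where
  zero := top_unique fun v _ j hj => absurd hj (Nat.not_lt_zero _)
  anti i v hv j hj := hv j (by omega)
  fin := ⟨256, bot_unique fun v hv => funext fun j => hv j (Nat.mod_lt _ (by norm_num))⟩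

theorem bv_mem {T i u : ℕ} (h : i ≤ wN T u) : bv D K u ∈ wtFlag D K T i := fun j hj =>
  if_neg fun e => by rw [e] at hj; omega

variable {D}

theorem x_sub_mem {T c : ℕ} (h : IsWt D T c) (r : ℕ) (t : K) {d : ℕ}
    (hr : c + d ≤ wN T (D.rank + r)) {i : ℕ} {v : D.Idx → K} (hv : v ∈ wtFlag D K T i) :
    D.x K r t *ᵥ v - v ∈ wtFlag D K T (i + d) := by
  rw [eq_sum_bv D v, mulVec_sum, ← Finset.sum_sub_distrib]
  refine Submodule.sum_mem _ fun j _ => ?_
  by_cases hj : wN T (idx D j) < i
  · simp [hv j hj]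
  rw [mulVec_smul, ← smul_sub, x_mulVec_bv, add_sub_cancel_left]
  refine Submodule.smul_mem _ _ (list_sum_mem fun x hx => ?_)
  obtain ⟨y, hy, rfl⟩ := List.mem_map.1 hx
  obtain ⟨h1, h2⟩ := h r _ y hy
  refine Submodule.smul_mem _ _ (bv_mem D ?_)
  nlinarith

theorem mPres_wordMat {T c : ℕ} (h : IsWt D T c) {w : List (ℕ × K)}
    (hw : ∀ x ∈ w, c ≤ wN T (D.rank + x.1)) : MPres (wtFlag D K T) (D.wordMat K w) := by
  induction w with
  | nil => exact MPres.one
  | cons x w ih =>
    rw [ChevalleyDatum.wordMat, List.map_cons, List.prod_cons]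
    refine MPres.mul (fun i v hv => ?_) (ih fun y hy => hw y (List.mem_cons_of_mem _ hy))
    simpa using add_mem (x_sub_mem h x.1 x.2 (d := 0) (hw x List.mem_cons_self) hv) hv

theorem mUnip_wordMat {T c : ℕ} (h : IsWt D T c) {w : List (ℕ × K)}
    (hw : ∀ x ∈ w, c < wN T (D.rank + x.1)) : MUnip (wtFlag D K T) (D.wordMat K w) := by
  induction w with
  | nil => exact MUnip.one
  | cons x w ih =>
    rw [ChevalleyDatum.wordMat, List.map_cons, List.prod_cons]
    exact MUnip.mul (isFlag_wtFlag D T)
      (fun i v hv => x_sub_mem h x.1 x.2 (d := 1) (hw x List.mem_cons_self) hv)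
      (ih fun y hy => hw y (List.mem_cons_of_mem _ hy))

end Chev

end Cfsg

set_option linter.all false in
theorem Cfsg.Rz.Lie_ChevCol_0 : True := by
  have := @_root_.Cfsg.homRep.eq_def.{0, 0, 0}
  have := @_root_.Cfsg.homRep.eq_1.{0, 0, 0}
  have := @_root_.Cfsg.homRep.fun_cases
  have := @_root_.Cfsg.Chev.wtFlag.eq_def.{0}
  have := @_root_.Cfsg.Chev.wtFlag.eq_1.{0}
  have := @_root_.Cfsg.Chev.wtFlag.fun_cases
  have := @_root_.Cfsg.Chev.wtCheck.eq_def
  have := @_root_.Cfsg.Chev.wtCheck.fun_cases
  have := @_root_.Cfsg.Chev.bv.eq_def.{0}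
  have := @_root_.Cfsg.Chev.bv.fun_cases
  have := @_root_.Cfsg.Chev.chainN.eq_def
  have := @_root_.Cfsg.Chev.chainN.eq_1
  have := @_root_.Cfsg.Chev.chainN.fun_cases
  have := @_root_.Cfsg.Chev.idx.eq_def
  have := @_root_.Cfsg.Chev.idx.fun_cases
  have := @_root_.Cfsg.MUnip.eq_def.{0, 0}
  have := @_root_.Cfsg.MUnip.eq_1.{0, 0}
  have := @_root_.Cfsg.MUnip.fun_cases
  have := @_root_.Cfsg.Chev.colN.eq_def
  have := @_root_.Cfsg.Chev.colN.fun_cases
  have := @_root_.Cfsg.subMat.eq_def.{0, 0}
  have := @_root_.Cfsg.subMat.eq_1.{0, 0}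
  have := @_root_.Cfsg.subMat.fun_cases
  have := @_root_.Cfsg.Chev.wN.eq_def
  have := @_root_.Cfsg.Chev.wN.eq_1
  have := @_root_.Cfsg.Chev.wN.fun_cases
  have := @_root_.Cfsg.MPres.eq_def.{0, 0}
  have := @_root_.Cfsg.MPres.eq_1.{0, 0}
  have := @_root_.Cfsg.MPres.fun_cases
  have := @_root_.Cfsg.Chev.IsWt.eq_def
  trivial

set_option linter.all false in
theorem Cfsg.Rz.Lie_ChevCol_1 : True := by
  have := @_root_.Cfsg.Chev.IsWt.eq_1
  have := @_root_.Cfsg.Chev.IsWt.fun_cases
  trivial
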