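import Cfsg.Agent.Lie.ChevCert

/-!
# Rigidity of subgroups of Chevalley groups from certificates
-/

set_option autoImplicit false
set_option linter.unusedSectionVars false
set_option linter.unusedVariables false
set_option linter.style.haveILetI false

namespace Cfsg

open Subgroup Matrix _root_.Cfsg.Lie

namespace Chev

variable {D : ChevalleyDatum} {K : Type*} [Field K] {G : Subgroup (GL D.Idx K)} {q : ℕ}
  {p : ℕ} [Fact p.Prime] [CharP K p] [Finite G] {p0 nw : ℕ} {ws : ℕ → WordT}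
  (h0 : (p0 : K) = 0) (hws : ∀ i < nw, WOK G q (ws i)) {F : Subgroup G}
include h0 hws

theorem unip_le_of_cert (hF : LocClosed p F) {known okX : List (ℕ × Ex) → Bool}
    (hk : WMem G q known F) {T c : ℕ} (hT : IsWt D T c) {X : Subgroup G} (hX : WMem G q okX X)
    {l : List ℕ} {i0 : ℕ} (h : full D (run D p0 nw ws
      (fun w => known w && rais D T c w && okX w) (fun _ => false) l 0) i0 i0 = true)
    {T' : ℕ} (hX' : X ≤ flagStab (rep G) (wtFlag D K T')) :
    flagUnip (rep G) (wtFlag D K T') ≤ F :=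
  hF.flagUnip_le (isFlag_wtFlag D T') (rep_injective G) (inf_le_left.trans inf_le_left)
    (pGood_of_full h0 hws ((hk.and (wMem_rais hT)).and hX) (wMem_false _)
      (inf_le_left.trans inf_le_right) h)
    (((isFlag_wtFlag D T).isPGroup (rep_injective G)).to_le (inf_le_left.trans inf_le_right))
    (inf_le_right.trans hX')

theorem stab_le_one (hF : LocClosed p F) {T c : ℕ} (hT : IsWt D T c)
    (hU : flagUnip (rep G) (wtFlag D K T) ≤ F) {l : List ℕ} {i0 : ℕ}
    (h : full D (run D p0 nw ws (rais D T c) (pres D T c) l 0) i0 i0 = true) :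
    flagStab (rep G) (wtFlag D K T) ≤ F :=
  hF.flagStab_le (isFlag_wtFlag D T) (rep_injective G) hU (pGood_of_full h0 hws (wMem_rais hT)
    ((wMem_pres hT).mono flagStab_le_normalizer) le_rfl h) le_rfl

theorem stab_le_two (hF : LocClosed p F) {T c : ℕ} (hT : IsWt D T c)
    (hU : flagUnip (rep G) (wtFlag D K T) ≤ F) {l : List ℕ} {i0 i1 y k z1 z2 : ℕ}
    (h : full D (run D p0 nw ws (rais D T c) (pres D T c) l 0) i0 i1 = true)
    (h' : twoOK D T nw ws (rais D T c) (pres D T c) i0 i1 y k z1 z2 = true) :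
    flagStab (rep G) (wtFlag D K T) ≤ F :=
  hF.flagStab_le (isFlag_wtFlag D T) (rep_injective G) hU (pGood_of_two h0 hws (wMem_rais hT)
    ((wMem_pres hT).mono flagStab_le_normalizer) le_rfl h h') le_rfl

theorem pRigid_of_std [IsSimpleGroup G] {T0 c0 T1 c1 T2 c2 : ℕ} (w0 : IsWt D T0 c0)
    (w1 : IsWt D T1 c1) (w2 : IsWt D T2 c2) {l0 l1 l2 : List ℕ} {i0 i1 y k z1 z2 : ℕ}
    (a0 : full D (run D p0 nw ws (fun w => rais D T0 c0 w && rais D T0 c0 w &&
      (pres D T1 c1 w && pres D T2 c2 w)) (fun _ => false) l0 0) i0 i0 = true)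
    (a1 : full D (run D p0 nw ws (rais D T1 c1) (pres D T1 c1) l1 0) i0 i0 = true)
    (a2 : full D (run D p0 nw ws (rais D T2 c2) (pres D T2 c2) l2 0) i0 i1 = true)
    (a3 : (twoOK D T2 nw ws (rais D T2 c2) (pres D T2 c2) i0 i1 y k z1 z2 &&
      rais D T0 c0 (ws z1).1) = true)
    (h : ∀ F : Subgroup G, LocClosed p F → flagUnip (rep G) (wtFlag D K T0) ≤ F →
      flagStab (rep G) (wtFlag D K T1) ≤ F → flagStab (rep G) (wtFlag D K T2) ≤ F → F = ⊤) :
    PRigid p G := by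
  obtain ⟨a3, a4⟩ := Bool.and_eq_true_iff.1 a3
  refine pRigid_of_simple ((isFlag_wtFlag D T0).isPGroup (rep_injective G)) (fun hb => ?_)
    fun a _ hF hU => ?_
  · simp only [twoOK, Bool.and_eq_true, decide_eq_true_eq] at a3
    obtain ⟨⟨⟨⟨⟨⟨⟨⟨⟨⟨⟨⟨⟨⟨⟨⟨⟨⟨⟨⟨-, b2⟩, -⟩, -⟩, -⟩, -⟩, -⟩, -⟩, b9⟩, -⟩, -⟩, -⟩, -⟩,
      -⟩, -⟩, -⟩, b17⟩, -⟩, -⟩, -⟩, -⟩ := a3
    obtain ⟨g, hg⟩ := (hws z1 b9).one
    obtain ⟨j, rfl⟩ := exists_idx D b2
    have h1 := rep_bv_apply hg i0 j
    have h2 := wMem_rais w0 _ a4 g 1 hg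
    rw [hb, mem_bot] at h2
    rw [h2, map_one] at h1
    exact ne_zero_of_pm (K := K) b17 (by simpa using h1)
  have hk := (wMem_rais (q := q) w0).mono hU
  have hX := (wMem_pres (G := G) (q := q) w1).and (wMem_pres w2)
  exact h _ hF hU (stab_le_one h0 hws hF w1
    (unip_le_of_cert h0 hws hF hk w0 hX a0 inf_le_left) a1)
      (stab_le_two h0 hws hF w2 (unip_le_of_cert h0 hws hF hk w0 hX a0 inf_le_right) a2 a3)

omit h0 hws

theorem wMem_std {T0 c0 T1 c1 T2 c2 : ℕ} (w0 : IsWt D T0 c0) (w1 : IsWt D T1 c1)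
    (w2 : IsWt D T2 c2) (h0 : flagUnip (rep G) (wtFlag D K T0) ≤ F)
    (h1 : flagStab (rep G) (wtFlag D K T1) ≤ F) (h2 : flagStab (rep G) (wtFlag D K T2) ≤ F) :
    WMem G q (fun w => rais D T0 c0 w || pres D T1 c1 w || pres D T2 c2 w) F :=
  (((wMem_rais w0).mono h0).or ((wMem_pres w1).mono h1)).or ((wMem_pres w2).mono h2)

theorem mem_of_word {T0 c0 T1 c1 T2 c2 : ℕ} (w0 : IsWt D T0 c0) (w1 : IsWt D T1 c1)
    (w2 : IsWt D T2 c2) (h0 : flagUnip (rep G) (wtFlag D K T0) ≤ F)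
    (h1 : flagStab (rep G) (wtFlag D K T1) ≤ F) (h2 : flagStab (rep G) (wtFlag D K T2) ≤ F)
    {g : G} {w : List (ℕ × K)} (hg : g.1.1 = D.wordMat K w) {l : List ℕ} (hl : w.map (·.1) = l)
    (h : (l.all (fun r => c0 < wN T0 (D.rank + r)) || l.all (fun r => c1 ≤ wN T1 (D.rank + r)) ||
      l.all (fun r => c2 ≤ wN T2 (D.rank + r))) = true) : g ∈ F := by
  subst hl
  simp only [Bool.or_eq_true, List.all_eq_true, decide_eq_true_eq, List.forall_mem_map] at h
  rw [← subMat_apply] at hg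
  rcases h with (h | h) | h
  · exact h0 (MUnip.mem (isFlag_wtFlag D T0) (hg ▸ mUnip_wordMat w0 h))
  · exact h1 (MPres.mem (hg ▸ mPres_wordMat w1 h))
  · exact h2 (MPres.mem (hg ▸ mPres_wordMat w2 h))

theorem eq_top_of_closure {H : Type*} [Group H] {S : Set H} {F : Subgroup (closure S)}
    (h : ∀ g : closure S, g.1 ∈ S → g ∈ F) : F = ⊤ := by
  refine top_unique fun g _ => ?_
  have : closure S ≤ F.map (closure S).subtype :=
    (closure_le _).2 fun x hx => ⟨⟨x, subset_closure hx⟩, h _ hx, rfl⟩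
  obtain ⟨y, hy, e⟩ := this g.2
  rwa [← show y = g from Subtype.ext e]

/-- One letter words. -/
def letter (r : ℕ) : WordT := ([(r, (1, 0, 0))], [])

theorem wordMat_letter (r : Fin D.nroots) (t : K) :
    D.wordMat K (inst 0 (letter r).1 t) = D.xMat K r t := by
  simp [letter, inst, ev, ChevalleyDatum.wordMat, ChevalleyDatum.x]

theorem exists_unit {T c T' c' : ℕ} (hT : IsWt D T c) (hT' : IsWt D T' c') {w : List (ℕ × K)}
    (h : (∀ x ∈ w, c < wN T (D.rank + x.1)) ∨ ∀ x ∈ w, c' < wN T' (D.rank + x.1)) :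
    ∃ g : GL D.Idx K, g.1 = D.wordMat K w :=
  h.elim (fun h => (mUnip_wordMat hT h).isUnit (isFlag_wtFlag D T))
    fun h => (mUnip_wordMat hT' h).isUnit (isFlag_wtFlag D T')

theorem wOK_letter {T c T' c' : ℕ} (hT : IsWt D T c) (hT' : IsWt D T' c')
    (h : ((List.range D.nroots).all fun r =>
      c < wN T (D.rank + r) || c' < wN T' (D.rank + r)) = true) (r : ℕ) (hr : r < D.nroots) :
    WOK (D.group K) 0 (letter r) := by
  refine ⟨?_, fun h => (h rfl).elim, fun _ h => by simp [letter] at h⟩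
  obtain ⟨g, hg⟩ := exists_unit (K := K) hT hT' (w := inst 0 (letter r).1 1) (by
    simpa [letter, inst] using List.all_eq_true.1 h r (List.mem_range.2 hr))
  exact ⟨⟨g, subset_closure ⟨⟨r, hr⟩, 1, hg.trans (wordMat_letter ⟨r, hr⟩ 1)⟩⟩, hg⟩

theorem group_eq_top {known : List (ℕ × Ex) → Bool} {F : Subgroup (D.group K)}
    (hk : WMem (D.group K) 0 known F)
    (h : ((List.range D.nroots).all fun r => known (letter r).1) = true) : F = ⊤ :=
  eq_top_of_closure fun g ⟨r, t, hg⟩ => hk _ (List.all_eq_true.1 h r (List.mem_range.2 r.2)) g t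
    (hg.trans (wordMat_letter r t).symm)

theorem pRigid_group [Finite (D.group K)] [IsSimpleGroup (D.group K)]
    {T0 c0 T1 c1 T2 c2 T3 c3 : ℕ} (w0 : IsWt D T0 c0)
    (w1 : IsWt D T1 c1) (w2 : IsWt D T2 c2) (w3 : IsWt D T3 c3) {l0 l1 l2 l3 : List ℕ}
    {i0 i1 y k z1 z2 i3 : ℕ}
    (a0 : full D (run D 0 D.nroots letter (fun w => rais D T0 c0 w && rais D T0 c0 w &&
      (pres D T1 c1 w && pres D T2 c2 w)) (fun _ => false) l0 0) i0 i0 = true)
    (a1 : full D (run D 0 D.nroots letter (rais D T1 c1) (pres D T1 c1) l1 0) i0 i0 = true)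
    (a2 : full D (run D 0 D.nroots letter (rais D T2 c2) (pres D T2 c2) l2 0) i0 i1 = true)
    (a3 : (twoOK D T2 D.nroots letter (rais D T2 c2) (pres D T2 c2) i0 i1 y k z1 z2 &&
      rais D T0 c0 (letter z1).1) = true)
    (a4 : full D (run D 0 D.nroots letter (fun w =>
      (rais D T0 c0 w || pres D T1 c1 w || pres D T2 c2 w) && rais D T3 c3 w && pres D T3 c3 w)
      (fun _ => false) l3 0) i3 i3 = true)
    (a5 : ((List.range D.nroots).all fun r =>
      c0 < wN T0 (D.rank + r) || c3 < wN T3 (D.rank + r)) = true) : PRigid p (D.group K) := by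
  have hws := wOK_letter (K := K) w0 w3 a5
  refine pRigid_of_std Nat.cast_zero hws w0 w1 w2 a0 a1 a2 a3 fun F hF b0 b1 b2 => ?_
  have hk := wMem_std (q := 0) w0 w1 w2 b0 b1 b2
  refine group_eq_top
    (hk.or ((wMem_rais w3).mono (unip_le_of_cert Nat.cast_zero hws hF hk w3 (wMem_pres w3) a4
      le_rfl))) (List.all_eq_true.2 fun r hr => ?_)
  rcases Bool.or_eq_true_iff.1 (List.all_eq_true.1 a5 r hr) with h | h <;>
    simp [rais, letter, of_decide_eq_true h]

theorem exists_pow_ne_pow [Fintype K] {a b : ℕ} (ha : 0 < a) (hab : a < b)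
    (hb : b < Fintype.card K) : ∃ t : K, t ^ a ≠ t ^ b := by
  classical
  by_contra h
  push Not at h
  have h1 : (Polynomial.X ^ b - Polynomial.X ^ a : Polynomial K).natDegree = b := by
    rw [Polynomial.natDegree_sub_eq_left_of_natDegree_lt] <;> simp [hab]
  have h2 := Polynomial.eq_zero_of_natDegree_lt_card_of_eval_eq_zero
    (Polynomial.X ^ b - Polynomial.X ^ a : Polynomial K) Function.injective_id
    (fun t => by simp [h t]) (by rwa [h1])
  rw [h2] at h1
  simp at h1; omega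

theorem ind_of_lt [Fintype K] {al : List Ex}
    (h : ∀ e ∈ al, 0 < ev q e ∧ ev q e < Fintype.card K)
    (h' : ∀ e ∈ al, ∀ e' ∈ al, ev q e = ev q e' → e = e') :
    ∀ e ∈ al, ∀ e' ∈ al, e ≠ e' → ∃ t : K, t ^ ev q e ≠ t ^ ev q e' := fun e he e' he' hne => by
  rcases lt_trichotomy (ev q e) (ev q e') with h1 | h1 | h1
  · exact exists_pow_ne_pow (h e he).1 h1 (h e' he').2
  · exact (hne (h' e he e' he' h1)).elim
  · obtain ⟨t, ht⟩ := exists_pow_ne_pow (h e' he').1 h1 (h e he).2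
    exact ⟨t, ht.symm⟩

theorem exists_gen {T c T' c' : ℕ} (hT : IsWt D T c) (hT' : IsWt D T' c') {S : Set (List (ℕ × K))}
    {w : List (ℕ × K)} (hw : w ∈ S) {l : List ℕ} (hl : w.map (·.1) = l)
    (h : (l.all (fun r => c < wN T (D.rank + r)) || l.all (fun r => c' < wN T' (D.rank + r))) =
      true) : ∃ g : D.genSubgroup K S, subMat _ g = D.wordMat K w := by
  subst hl
  simp only [Bool.or_eq_true, List.all_eq_true, decide_eq_true_eq, List.forall_mem_map] at h
  obtain ⟨g, hg⟩ := exists_unit hT hT' h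
  exact ⟨⟨g, subset_closure ⟨w, hw, hg⟩⟩, hg⟩

end Chev

end Cfsg

set_option linter.all false in
theorem Cfsg.Rz.Lie_ChevMain_0 : True := by
  have := @_root_.Cfsg.Chev.letter.eq_def
  have := @_root_.Cfsg.Chev.letter.fun_cases
  trivial
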