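import Cfsg.Agent.Lie.Polar
import Cfsg.Agent.Lie.ChevMain

/-!
# Rigidity of the symplectic and unitary groups
-/

set_option autoImplicit false
set_option linter.unusedSectionVars false
set_option linter.unusedVariables false
set_option linter.style.haveILetI false

namespace Cfsg

open Subgroup Submodule
open scoped Matrix

universe u v w

section Eich

variable {K : Type u} [Field K] {V : Type v} [AddCommGroup V] [Module K V] {σ : K →+* K}
  {B : V →ₗ[K] V →ₛₗ[σ] K}

/-- The Eichler map `w ↦ w + B(w,u) v + (α B(w,v) + μ B(w,u)) u`. -/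
def eichT (B : V →ₗ[K] V →ₛₗ[σ] K) (α μ : K) (u v : V) : Module.End K V :=
  1 + (B.flip u).smulRight v + (α • B.flip v + μ • B.flip u).smulRight u

theorem eichT_apply (α μ : K) (u v w : V) :
    eichT B α μ u v w = w + B w u • v + (α * B w v + μ * B w u) • u := rfl

theorem eichT_unip (α μ : K) {u v : V} (h1 : B u u = 0) (h2 : B v u = 0) (h3 : B u v = 0) :
    (eichT B α μ u v - 1) ^ 3 = 0 := LinearMap.ext fun w => by
  have a : ∀ w, (eichT B α μ u v - 1) w = B w u • v + (α * B w v + μ * B w u) • u := fun w => by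
    rw [LinearMap.sub_apply, eichT_apply, Module.End.one_apply]; abel
  simp [pow_succ, a, h1, h2, h3]

theorem eichT_iso {ε α μ : K} (hB : ∀ x y, B y x = ε * σ (B x y)) (hα : α * ε = -1)
    (hα' : σ α = -ε) {u v : V} (h1 : B u u = 0) (h2 : B v u = 0)
    (hμ : σ μ + B v v + μ * ε = 0) (x y : V) :
    B (eichT B α μ u v x) (eichT B α μ u v y) = B x y := by
  have h3 : B u v = 0 := by rw [hB, h2]; simp
  simp only [eichT_apply, map_add, map_smul, LinearMap.add_apply, LinearMap.smul_apply,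
    LinearMap.map_smulₛₗ, smul_eq_mul, h1, h2, h3, map_mul, hB y u, hB y v, hα']
  linear_combination (σ (B y u) * B x v) * hα + B x u * σ (B y u) * hμ

end Eich

variable {p : ℕ} [Fact p.Prime] {K : Type} [Field K] [Finite K] [CharP K p]

theorem single_notMem_span {ι : Type} [DecidableEq ι] {u v : ι → K} {i : ι} (hu : u i = 0)
    (hv : v i ≠ 0) : v ∉ span K {u} := fun h => by
  obtain ⟨c, rfl⟩ := mem_span_singleton.1 h
  exact hv (by simp [hu])

theorem exists_polar_sp (K : Type) [Field K] (m : ℕ) :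
    ∃ B : LinearMap.BilinForm K (Fin m ⊕ Fin m → K),
    (∀ u v, B u v = ∑ i, u (.inr i) * v (.inl i) - ∑ i, u (.inl i) * v (.inr i)) ∧
    Polar (homRep (Matrix.symplecticGroup (Fin m) K).subtype) (RingHom.id K) B Set.univ 1 ∧
    ∀ z μ, ∃ g : Matrix.symplecticGroup (Fin m) K,
      ∀ w, homRep (Matrix.symplecticGroup (Fin m) K).subtype g w = w + (μ * B w z) • z := by
  let B := Matrix.toBilin' (Matrix.J (Fin m) K)
  have key : ∀ A : Matrix _ _ K, A ∈ Matrix.symplecticGroup (Fin m) K ↔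
      ∀ u v, B (A.toLin' u) (A.toLin' v) = B u v := fun A => by
    rw [SymplecticGroup.mem_iff', ← Matrix.toBilin'.injective.eq_iff, ← Matrix.toBilin'_comp]
    exact LinearMap.ext_iff₂
  have hB : ∀ u v, B u v = ∑ i, u (.inr i) * v (.inl i) - ∑ i, u (.inl i) * v (.inr i) :=
    fun u v => by
      simp [B, Matrix.toBilin'_apply', Matrix.J, Matrix.fromBlocks_mulVec, dotProduct,
        Matrix.neg_mulVec, sub_eq_neg_add]
  have h0 : ∀ u, B u u = 0 := fun u => by simp [hB, mul_comm]
  have h1 : ∀ x y, B y x = -1 * RingHom.id K (B x y) := fun x y => by simp [hB, mul_comm]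
  have he : ∀ μ u v, B v u = 0 → ∃ g : Matrix.symplecticGroup (Fin m) K,
      ∀ w, homRep (Matrix.symplecticGroup (Fin m) K).subtype g w = eichT B 1 μ u v w :=
    fun μ u v h => ⟨⟨LinearMap.toMatrix' (eichT B 1 μ u v), (key _).2 fun x y => by
      rw [Matrix.toLin'_toMatrix']
      exact eichT_iso h1 (by simp) (by simp) (h0 u) h (by simp [h0]) x y⟩,
      fun w => LinearMap.toMatrix'_mulVec _ w⟩
  have hP : Polar (homRep (Matrix.symplecticGroup (Fin m) K).subtype) (RingHom.id K) B Set.univ 1 :=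
    { invol := fun _ => rfl
      refl := fun u v h => by rw [h1, h]; simp
      nondeg := fun u h => funext fun
        | .inl i => by simpa [hB, Pi.single_apply] using h (Pi.single (.inr i) 1)
        | .inr i => by simpa [hB, Pi.single_apply] using h (Pi.single (.inl i) 1)
      inj := homRep_injective Subtype.val_injective
      iso := fun g => (key g.1).1 g.2
      sing := fun _ _ _ => trivial
      self := fun u _ => h0 u
      comb := fun _ _ _ _ _ _ _ => trivial
      ne := one_ne_zero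
      eich := fun u _ v h => by
        obtain ⟨g, hg⟩ := he 0 u v h
        exact ⟨g, 0, hg⟩ }
  refine ⟨B, hB, hP, fun z μ => ?_⟩
  obtain ⟨g, hg⟩ := he μ z 0 (by simp)
  exact ⟨g, fun w => by simp [hg, eichT_apply]⟩

theorem pRigid_psp {m : ℕ} (hm : 2 ≤ m) [IsSimpleGroup (PSp m K)] : PRigid p (PSp m K) := by
  obtain ⟨B, hB, hP, he⟩ := exists_polar_sp K m
  let u : Fin m ⊕ Fin m → K := Pi.single (.inl ⟨0, by omega⟩) 1
  refine pRigid_quotient_center ((isFlag_flagTwo (hP.le_perp_one (u := u) trivial)).isPGroup hP.inj)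
    fun F hF hU => hP.eq_top hF (.inl fun z _ => ?_) (v := Pi.single (.inl ⟨1, by omega⟩) 1)
      trivial trivial (by simp [hB, u]) (by simp [u])
      (single_notMem_span (i := .inl ⟨1, by omega⟩) (by simp [u]) (by simp)) hU
  obtain ⟨g, hg⟩ := he z 1
  exact ⟨g, 1, one_ne_zero, hg⟩

/-- The standard Hermitian form. -/
def hermB (n : ℕ) (σ : K →+* K) : (Fin n → K) →ₗ[K] (Fin n → K) →ₛₗ[σ] K :=
  LinearMap.mk₂'ₛₗ (RingHom.id K) σ (fun u v => ∑ i, u i * σ (v i))
    (fun _ _ _ => by simp [add_mul, Finset.sum_add_distrib])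
    (fun _ _ _ => by simp [Finset.mul_sum, mul_assoc])
    (fun _ _ _ => by simp [mul_add, Finset.sum_add_distrib])
    fun _ _ _ => by simp [Finset.mul_sum, mul_left_comm]

theorem hermB_apply {n : ℕ} (σ : K →+* K) (u v : Fin n → K) :
    hermB n σ u v = ∑ i, u i * σ (v i) := rfl

theorem exists_frob_of_card_sq (p : ℕ) [Fact p.Prime] [CharP K p] [Fintype K] {q : ℕ}
    (hq : Fintype.card K = q ^ 2) : 1 < q ∧ ∃ σ : K →+* K, ∀ x, σ x = x ^ q := by
  obtain ⟨n, hp, hn⟩ := FiniteField.card K p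
  obtain ⟨k, -, rfl⟩ := (Nat.dvd_prime_pow hp).1 ((dvd_pow_self q two_ne_zero).trans
    (hq.symm.trans hn).dvd)
  exact ⟨(Nat.one_lt_pow_iff two_ne_zero).1 (hq ▸ Fintype.one_lt_card), iterateFrobenius K p k,
    fun x => rfl⟩

theorem exists_norm_eq_neg_one (p : ℕ) [Fact p.Prime] [CharP K p] [Fintype K] {q : ℕ}
    (hq : Fintype.card K = q ^ 2) (σ : K →+* K) : ∃ c : K, c * σ c = -1 := by
  obtain ⟨i, hi⟩ := FiniteField.isSquare_neg_one_iff.2 (show Fintype.card K % 4 ≠ 3 by
    rw [hq, Nat.pow_mod]; have := Nat.mod_lt q (show 0 < 4 by omega)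
    interval_cases q % 4 <;> simp)
  have h1 : σ i * σ i = i * i := by rw [← map_mul, ← hi]; simp
  rcases mul_self_eq_mul_self_iff.1 h1 with h | h
  · exact ⟨i, by rw [h, hi]⟩
  obtain ⟨a, b, hab⟩ := CharP.sq_add_sq K p (-1)
  refine ⟨a + b * i, ?_⟩
  simp only [map_add, map_mul, map_natCast, h]
  push_cast at hab
  linear_combination hab + (b : K) ^ 2 * hi

theorem exists_polar_su (p : ℕ) [Fact p.Prime] [CharP K p] [Fintype K] (n : ℕ) {q : ℕ}
    (hq : Fintype.card K = q ^ 2) : ∃ (σ : K →+* K) (B : (Fin n → K) →ₗ[K] (Fin n → K) →ₛₗ[σ] K),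
    B = hermB n σ ∧ (∃ t, t ≠ σ t) ∧ (∀ x y, B y x = 1 * σ (B x y)) ∧
    Polar (homRep ((slToMat n K).comp (SU n K q).subtype)) σ B {u | B u u = 0} (-1) ∧
    ∀ μ u v, B u u = 0 → B v u = 0 → σ μ + B v v + μ * 1 = 0 → ∃ g : SU n K q,
      ∀ w, homRep ((slToMat n K).comp (SU n K q).subtype) g w = eichT B (-1) μ u v w := by
  obtain ⟨hq1, σ, hσ⟩ := exists_frob_of_card_sq p hq
  have inv : ∀ x, σ (σ x) = x := fun x => by
    rw [hσ, hσ, ← pow_mul, ← sq, ← hq, FiniteField.pow_card]
  obtain ⟨t, ht⟩ := Chev.exists_pow_ne_pow (K := K) one_pos hq1 (by rw [hq]; nlinarith)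
  rw [pow_one, ← hσ] at ht
  obtain ⟨s, hs⟩ : ∃ s : K, σ s + s ≠ 0 := by
    by_contra! h
    have h1 := h 1
    rw [map_one] at h1
    exact ht (by linear_combination t * h1 - h t)
  let B := hermB n σ
  let f := (slToMat n K).comp (SU n K q).subtype
  have hB : ∀ u v, hermForm n K q u v = B u v := fun u v => by simp [B, hermB_apply, hermForm, hσ]
  have h1 : ∀ x y, B y x = 1 * σ (B x y) := fun x y => by simp [B, hermB_apply, inv, mul_comm]
  have h2 : ∀ x y, B x y = 0 → B y x = 0 := fun u v h => by rw [h1, h]; simp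
  have he : ∀ μ u v, B u u = 0 → B v u = 0 → σ μ + B v v + μ * 1 = 0 → ∃ g : SU n K q,
      ∀ w, homRep f g w = eichT B (-1) μ u v w := fun μ u v a1 a2 a3 => by
    obtain ⟨g, hg⟩ := exists_sl_of_unip p (eichT_unip (-1) μ a1 a2 (h2 _ _ a2))
    refine ⟨⟨g, fun x y => ?_⟩, hg⟩
    rw [hg, hg, hB, hB]
    exact eichT_iso h1 (by simp) (by simp) a1 a2 a3 x y
  have hi : ∀ (g : SU n K q) u v, B (homRep f g u) (homRep f g v) = B u v := fun g u v => by
    rw [← hB, ← hB]; exact g.2 u v
  have hP : Polar (homRep f) σ B {u | B u u = 0} (-1) :=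
    { invol := inv
      refl := h2
      nondeg := fun u h => funext fun i => by
        simpa [B, hermB_apply, Pi.single_apply] using h (Pi.single i 1)
      inj := homRep_injective ((slToMat_injective n).comp Subtype.val_injective)
      iso := hi
      sing := fun g u hu => (hi g u u).trans hu
      self := fun u h => h
      comb := fun u hu v hv h a b => by
        simp [LinearMap.map_smulₛₗ, h, h2 _ _ h, show B u u = 0 from hu, show B v v = 0 from hv]
      ne := by simp
      eich := fun u hu v h => by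
        have a1 : σ (B v v) = B v v := by rw [h1 v v, one_mul, inv, ← one_mul (σ _), ← h1]
        have a2 : σ (σ s + s) = σ s + s := by rw [map_add, inv, add_comm]
        obtain ⟨g, hg⟩ := he (-(B v v * s / (σ s + s))) u v hu h (by
          rw [map_neg, map_div₀, map_mul, a1, a2]; field_simp; ring)
        exact ⟨g, _, hg⟩ }
  exact ⟨σ, B, rfl, ⟨t, ht⟩, h1, hP, he⟩

theorem pRigid_psu [Fintype K] {n q : ℕ} (hq : Fintype.card K = q ^ 2) (hn : 3 ≤ n)
    [IsSimpleGroup (PSU n K q)] : PRigid p (PSU n K q) := by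
  obtain ⟨σ, B, hB, ⟨t, ht⟩, h1, hP, he⟩ := exists_polar_su p n hq
  obtain ⟨c, hc⟩ := exists_norm_eq_neg_one p hq σ
  have inv := hP.invol
  let i₀ : Fin n := ⟨0, by omega⟩
  let i₁ : Fin n := ⟨1, by omega⟩
  let i₂ : Fin n := ⟨2, by omega⟩
  let u : Fin n → K := Pi.single i₀ 1 + Pi.single i₁ c
  have b0 : ∀ w i a, B w (Pi.single i a) = w i * σ a := fun w i a => by
    simp [hB, hermB_apply, Pi.single_apply, apply_ite σ]
  have b1 : ∀ w, B w u = w i₀ + w i₁ * σ c := fun w => by simp [u, b0]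
  have hu : B u u = 0 := by rw [b1]; simp [u, i₀, i₁, hc]
  have hu0 : u ≠ 0 := fun h => by simpa [u, i₀, i₁] using congrFun h i₀
  refine pRigid_quotient_center ((isFlag_flagTwo (hP.le_perp_one (u := u) hu)).isPGroup hP.inj)
    fun F hF hU => ?_
  rcases hn.eq_or_lt with rfl | hn
  · refine hP.eq_top_rankOne hF (v := Pi.single i₂ 1) hu (by simp [b1, i₀, i₁, i₂]) hu0
      (single_notMem_span (i := i₂) (by simp [u, i₀, i₁, i₂]) (by simp)) (fun y hy h => ?_)
      (fun y hy y' hy' a1 a2 => ?_) hU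
    · rw [b1] at h
      have a1 : y 0 * σ (y 0) + y 1 * σ (y 1) + y 2 * σ (y 2) = 0 := by
        simpa [hB, hermB_apply, Fin.sum_univ_three] using hy
      have a2 : y 0 = -(y 1 * σ c) := eq_neg_of_add_eq_zero_left h
      have a3 : y 2 = 0 := by
        rw [a2, map_neg, map_mul, inv] at a1
        simpa using (by linear_combination a1 - y 1 * σ (y 1) * hc : y 2 * σ (y 2) = 0)
      refine mem_span_singleton.2 ⟨y 0, funext fun i => ?_⟩
      fin_cases i <;> simp [u, i₀, i₁, a3]
      linear_combination c * a2 - y 1 * hc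
    · have a3 : B (y' - y) u = 0 := by rw [map_sub, LinearMap.sub_apply, a1, a2, sub_self]
      obtain ⟨g, hg⟩ := he (B y (y' - y)) u (y' - y) hu a3 (by
        rw [← one_mul (σ _), ← h1]
        simp [show B y y = 0 from hy, show B y' y' = 0 from hy']; ring)
      exact ⟨g, hP.mem_unip (hP.le_perp_one hu) (mem_span_singleton_self u)
        (mem_perpS_span.2 (by simpa using a3)) hg, by rw [hg, eichT_apply, a1]; simp⟩
  let i₃ : Fin n := ⟨3, by omega⟩
  refine hP.eq_top hF (.inl fun z hz => ?_) (v := Pi.single i₂ 1 + Pi.single i₃ c) hu ?_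
    (by simp [b1, i₀, i₁, i₂, i₃]) hu0
    (single_notMem_span (i := i₂) (by simp [u, i₀, i₁, i₂]) (by simp [i₂, i₃])) hU
  · obtain ⟨g, hg⟩ := he (t - σ t) z 0 hz (by simp) (by simp [inv])
    exact ⟨g, _, sub_ne_zero.2 ht, fun w => by simp [hg, eichT_apply]⟩
  · rw [Set.mem_ofPred_eq, map_add (B _), b0, b0]; simp [i₂, i₃, hc]

end Cfsg

set_option linter.all false in
theorem Cfsg.Rz.Lie_Classical_0 : True := by
  have := @_root_.Cfsg.eichT.eq_def.{0, 0}
  have := @_root_.Cfsg.eichT.eq_1.{0, 0}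
  have := @_root_.Cfsg.eichT.fun_cases
  have := @_root_.Cfsg.hermB.eq_def
  have := @_root_.Cfsg.hermB.eq_1
  have := @_root_.Cfsg.hermB.fun_cases
  trivial
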