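import Cfsg.Agent.Lie.Rigid
import Mathlib.RepresentationTheory.Basic
import Mathlib.Algebra.CharP.Lemmas

/-!
# Flags, their unipotent radicals and centralizers

For a faithful representation `ρ` in characteristic `p` and a descending flag `W`, `flagUnip ρ W`
is a `p`-group normalized by `flagStab ρ W`.  A subgroup `R` of it is `PGood` (its centralizer is
a `p`-group modulo the centre) as soon as the centralizer acts by scalars on `V / [V, R]`.
-/

set_option autoImplicit false
set_option linter.unusedSectionVars false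
set_option linter.unusedVariables false
set_option linter.style.haveILetI false

namespace Cfsg

open Subgroup

universe u v w

variable {K : Type u} [Field K] {V : Type v} [AddCommGroup V] [Module K V] {H : Type w} [Group H]
  {ρ : Representation K H V} {W : ℕ → Submodule K V} {p : ℕ}

/-- A descending flag. -/
structure IsFlag (W : ℕ → Submodule K V) : Prop where
  zero : W 0 = ⊤
  anti : ∀ i, W (i + 1) ≤ W i
  fin : ∃ n, W n = ⊥

theorem rep_mul_apply (ρ : Representation K H V) (g h : H) (v : V) :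
    ρ (g * h) v = ρ g (ρ h v) := by rw [map_mul]; rfl

theorem rep_inv_apply (ρ : Representation K H V) (g : H) (v : V) : ρ g⁻¹ (ρ g v) = v := by
  rw [← rep_mul_apply, inv_mul_cancel, map_one]; rfl

theorem rep_apply_inv (ρ : Representation K H V) (g : H) (v : V) : ρ g (ρ g⁻¹ v) = v := by
  rw [← rep_mul_apply, mul_inv_cancel, map_one]; rfl

/-- The stabilizer of a flag. -/
def flagStab (ρ : Representation K H V) (W : ℕ → Submodule K V) : Subgroup H where
  carrier := {g | ∀ i v, ρ g v ∈ W i ↔ v ∈ W i}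
  mul_mem' {a b} ha hb i v := by rw [rep_mul_apply, ha, hb]
  one_mem' i v := by rw [map_one]; rfl
  inv_mem' {a} ha i v := by rw [← ha, rep_apply_inv]

theorem rep_mem_iff_of_finite [Finite H] {g : H} {S : Submodule K V} (h : ∀ v ∈ S, ρ g v ∈ S)
    (v : V) : ρ g v ∈ S ↔ v ∈ S := by
  refine ⟨fun hv => ?_, h v⟩
  have h1 : ∀ n : ℕ, ∀ v ∈ S, ρ (g ^ n) v ∈ S := fun n => by
    induction n with
    | zero => intro v hv; rwa [pow_zero, map_one]
    | succ n ih => intro v hv; rw [pow_succ', rep_mul_apply]; exact h _ (ih v hv)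
  have h2 : g ^ (orderOf g - 1) * g = 1 := by
    rw [← pow_succ, Nat.sub_add_cancel (orderOf_pos g), pow_orderOf_eq_one]
  have := h1 (orderOf g - 1) _ hv
  rwa [← rep_mul_apply, h2, map_one] at this

theorem mem_flagStab [Finite H] {g : H} : g ∈ flagStab ρ W ↔ ∀ i, ∀ v ∈ W i, ρ g v ∈ W i :=
  ⟨fun h i v hv => (h i v).2 hv, fun h i => rep_mem_iff_of_finite (h i)⟩

/-- The unipotent radical of the stabilizer of a flag. -/
def flagUnip (ρ : Representation K H V) (W : ℕ → Submodule K V) : Subgroup H where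
  carrier := {g | g ∈ flagStab ρ W ∧ ∀ i, ∀ v ∈ W i, ρ g v - v ∈ W (i + 1)}
  mul_mem' {a b} ha hb := ⟨mul_mem ha.1 hb.1, fun i v hv => by
    have := add_mem ((ha.1 _ _).2 (hb.2 i v hv)) (ha.2 i v hv)
    rwa [map_sub, sub_add_sub_cancel, ← rep_mul_apply] at this⟩
  one_mem' := ⟨one_mem _, fun i v hv => by simp⟩
  inv_mem' {a} ha := ⟨inv_mem ha.1, fun i v hv => by
    have := neg_mem ((inv_mem ha.1 _ _).2 (ha.2 i v hv))
    rwa [map_sub, rep_inv_apply, neg_sub] at this⟩

theorem flagUnip_le : flagUnip ρ W ≤ flagStab ρ W := fun _ h => h.1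

theorem IsFlag.mem_flagUnip [Finite H] (hW : IsFlag W) {g : H} :
    g ∈ flagUnip ρ W ↔ ∀ i, ∀ v ∈ W i, ρ g v - v ∈ W (i + 1) :=
  ⟨fun h => h.2, fun h => ⟨mem_flagStab.2 fun i v hv => by
    simpa using add_mem (hW.anti i (h i v hv)) hv, h⟩⟩

theorem flagStab_le_normalizer [Finite H] :
    flagStab ρ W ≤ normalizer (flagUnip ρ W : Set H) := fun g hg =>
  mem_normalizer_of_forall_conj_mem fun x hx =>
    ⟨mul_mem (mul_mem hg hx.1) (inv_mem hg), fun i v hv => by
      have := (hg _ _).2 (hx.2 i _ ((inv_mem hg _ _).2 hv))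
      rwa [map_sub, rep_apply_inv, ← rep_mul_apply, ← rep_mul_apply] at this⟩

theorem end_pow_prime_pow [hp : Fact p.Prime] [CharP K p] {T : Module.End K V} {n : ℕ}
    (hT : T ^ n = 0) (c : K) : (c • (1 : Module.End K V) + T) ^ p ^ n = c ^ p ^ n • 1 := by
  obtain ⟨r, hr⟩ := ((Commute.one_left T).smul_left c).exists_add_pow_prime_pow_eq hp.out n
  have h0 : (p : Module.End K V) = 0 := by
    rw [← map_natCast (algebraMap K (Module.End K V)), CharP.cast_eq_zero, map_zero]
  rw [hr, h0, pow_eq_zero_of_le (Nat.lt_pow_self hp.out.one_lt).le hT, smul_pow, one_pow]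
  simp

theorem IsFlag.isPGroup [hp : Fact p.Prime] [CharP K p] (hW : IsFlag W)
    (hρ : Function.Injective ρ) : IsPGroup p (flagUnip ρ W) := by
  rintro ⟨g, hg⟩
  obtain ⟨n, hn⟩ := hW.fin
  have h1 : ∀ i v, ((ρ g - 1) ^ i) v ∈ W i := fun i => by
    induction i with
    | zero => intro v; rw [hW.zero]; trivial
    | succ i ih => intro v; rw [pow_succ', Module.End.mul_apply]; exact hg.2 i _ (ih v)
  have h2 : (ρ g - 1) ^ n = 0 := LinearMap.ext fun v => by simpa [hn] using h1 n v
  refine ⟨n, Subtype.ext (hρ ?_)⟩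
  have := end_pow_prime_pow (p := p) h2 1
  simpa using this

/-- The commutator submodule `[V, R]`. -/
def commSub (ρ : Representation K H V) (R : Subgroup H) : Submodule K V :=
  Submodule.span K {x | ∃ y ∈ R, ∃ v, x = ρ y v - v}

theorem sub_mem_commSub {R : Subgroup H} {y : H} (hy : y ∈ R) (v : V) :
    ρ y v - v ∈ commSub ρ R := Submodule.subset_span ⟨y, hy, v, rfl⟩

theorem commSub_le {R : Subgroup H} {S : Submodule K V} (h : ∀ y ∈ R, ∀ v, ρ y v - v ∈ S) :
    commSub ρ R ≤ S := Submodule.span_le.2 (by rintro _ ⟨y, hy, v, rfl⟩; exact h y hy v)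

theorem apply_mem_commSub {R : Subgroup H} {g : H} (hg : g ∈ normalizer (R : Set H)) {v : V}
    (hv : v ∈ commSub ρ R) : ρ g v ∈ commSub ρ R := by
  refine commSub_le (S := (commSub ρ R).comap (ρ g)) (fun y hy v => ?_) hv
  have := sub_mem_commSub (ρ := ρ) (conj_mem_of_mem_normalizer hg hy) (ρ g v)
  rwa [rep_mul_apply, rep_inv_apply, rep_mul_apply, ← map_sub] at this

theorem IsFlag.commSub_le_one (hW : IsFlag W) {R : Subgroup H} (hR : R ≤ flagUnip ρ W) :
    commSub ρ R ≤ W 1 := commSub_le fun y hy v => (hR hy).2 0 v (by rw [hW.zero]; trivial)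

/-- The centralizer of `R` is a `p`-group modulo the centre. -/
def PGood (p : ℕ) (R : Subgroup H) : Prop :=
  ∀ g ∈ centralizer (R : Set H), ∃ k, g ^ p ^ k ∈ center H

theorem PGood.mono {R R' : Subgroup H} (h : PGood p R) (hR : R ≤ R') : PGood p R' :=
  fun g hg => h g (centralizer_le hR hg)

theorem rep_comm {R : Subgroup H} {g y : H} (hg : g ∈ centralizer (R : Set H)) (hy : y ∈ R)
    (v : V) : ρ g (ρ y v) = ρ y (ρ g v) := by rw [← rep_mul_apply, ← hg y hy, rep_mul_apply]

variable [hp : Fact p.Prime] [CharP K p]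

theorem IsFlag.pGood (hW : IsFlag W) (hρ : Function.Injective ρ) {R : Subgroup H}
    (hR : R ≤ flagUnip ρ W)
    (h : ∀ g ∈ centralizer (R : Set H), ∃ c : K, ∀ v, ρ g v - c • v ∈ commSub ρ R) :
    PGood p R := by
  intro g hg
  obtain ⟨c, hc⟩ := h g hg
  obtain ⟨n, hn⟩ := hW.fin
  set T : Module.End K V := ρ g - c • 1 with hT
  have h0 : ∀ y ∈ R, Commute T (ρ y) := fun y hy =>
    (show Commute (ρ g) (ρ y) by rw [Commute, SemiconjBy, ← map_mul, ← hg y hy, map_mul]).sub_left
      ((Commute.one_left _).smul_left c)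
  have h1 : ∀ i v, (T ^ i) v ∈ W i := fun i => by
    induction i with
    | zero => intro v; rw [hW.zero]; trivial
    | succ i ih =>
      intro v
      rw [pow_succ, Module.End.mul_apply]
      refine commSub_le (S := (W (i + 1)).comap (T ^ i)) (fun y hy v => ?_) (hc v)
      rw [Submodule.mem_comap, map_sub, ← Module.End.mul_apply, ((h0 y hy).pow_left i).eq,
        Module.End.mul_apply]
      exact (hR hy).2 i _ (ih v)
  have h2 : T ^ n = 0 := LinearMap.ext fun v => by simpa [hn] using h1 n v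
  have h3 := end_pow_prime_pow (p := p) h2 c
  rw [hT, add_sub_cancel, ← map_pow] at h3
  exact ⟨n, mem_center_iff.2 fun x => hρ (by rw [map_mul, map_mul, h3]; simp)⟩

theorem IsFlag.pGood_of_one (hW : IsFlag W) (hρ : Function.Injective ρ) {R : Subgroup H}
    (hR : R ≤ flagUnip ρ W) {e : V} (he : ∀ v, ∃ c : K, v - c • e ∈ commSub ρ R) :
    PGood p R := by
  refine hW.pGood hρ hR fun g hg => ?_
  obtain ⟨a, ha⟩ := he (ρ g e)
  refine ⟨a, fun v => ?_⟩
  obtain ⟨c, hc⟩ := he v
  have := sub_mem (add_mem (apply_mem_commSub (centralizer_le_normalizer _ hg) hc)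
    (Submodule.smul_mem _ c ha)) (Submodule.smul_mem _ a hc)
  convert this using 1
  simp only [map_sub, map_smul]; module

/-- `v` is an eigenvector of the centralizer of `R` modulo `[V, R]`. -/
def IsCentEigen (ρ : Representation K H V) (R : Subgroup H) (v : V) : Prop :=
  ∀ g ∈ centralizer (R : Set H), ∃ c : K, ρ g v - c • v ∈ commSub ρ R

theorem IsCentEigen.apply {R : Subgroup H} {v : V} (h : IsCentEigen ρ R v) {z : H}
    (hz : z ∈ normalizer (R : Set H)) : IsCentEigen ρ R (ρ z v) := fun g hg => by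
  obtain ⟨c, hc⟩ := h (z⁻¹ * g * z⁻¹⁻¹) (conj_mem_of_mem_normalizer
    (normalizer_le_normalizer_centralizer R (inv_mem hz)) hg)
  refine ⟨c, ?_⟩
  have := apply_mem_commSub hz hc
  rwa [map_sub, map_smul, inv_inv, rep_mul_apply, rep_mul_apply, rep_apply_inv] at this

theorem IsFlag.pGood_of_two (hW : IsFlag W) (hρ : Function.Injective ρ) {R : Subgroup H}
    (hR : R ≤ flagUnip ρ W) {e f x : V} {α β : K} (hα : α ≠ 0) (hβ : β ≠ 0)
    (hs : ∀ v, ∃ c d : K, v - c • e - d • f ∈ commSub ρ R)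
    (hi : ∀ c d : K, c • e + d • f ∈ commSub ρ R → c = 0 ∧ d = 0)
    (hx : x - α • e - β • f ∈ commSub ρ R) (he : IsCentEigen ρ R e) (hf : IsCentEigen ρ R f)
    (hx' : IsCentEigen ρ R x) : PGood p R := by
  refine hW.pGood hρ hR fun g hg => ?_
  have hg' := centralizer_le_normalizer _ hg
  obtain ⟨a, ha⟩ := he g hg
  obtain ⟨b, hb⟩ := hf g hg
  obtain ⟨c, hc⟩ := hx' g hg
  have h1 := hi (α * (c - a)) (β * (c - b)) (by
    have := sub_mem (add_mem (add_mem (apply_mem_commSub hg' hx) (Submodule.smul_mem _ α ha))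
      (Submodule.smul_mem _ β hb)) (add_mem hc (Submodule.smul_mem _ c hx))
    convert this using 1
    simp only [map_sub, map_smul]; module)
  have h2 : a = c := (sub_eq_zero.1 ((mul_eq_zero.1 h1.1).resolve_left hα)).symm
  have h3 : b = c := (sub_eq_zero.1 ((mul_eq_zero.1 h1.2).resolve_left hβ)).symm
  subst h2 h3
  refine ⟨b, fun v => ?_⟩
  obtain ⟨s, t, hv⟩ := hs v
  have := sub_mem (add_mem (add_mem (apply_mem_commSub hg' hv) (Submodule.smul_mem _ s ha))
    (Submodule.smul_mem _ t hb)) (Submodule.smul_mem _ b hv)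
  convert this using 1
  simp only [map_sub, map_smul]; module

variable [Finite H] {F : Subgroup H}

theorem LocClosed.le_of_pGood (hF : LocClosed p F) {R Y : Subgroup H} (hRF : R ≤ F)
    (hR : PGood p R) (hY : IsPGroup p Y) (hRY : R ≤ Y) : Y ≤ F :=
  le_normalizer.trans (hF.closed R hRF hR Y hY hRY)

theorem LocClosed.flagStab_le (hF : LocClosed p F) (hW : IsFlag W) (hρ : Function.Injective ρ)
    {R : Subgroup H} (hRF : R ≤ F) (hR : PGood p R) (hRW : R ≤ flagUnip ρ W) :
    flagStab ρ W ≤ F :=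
  flagStab_le_normalizer.trans (hF.closed R hRF hR _ (hW.isPGroup hρ) hRW)

theorem LocClosed.flagUnip_le (hF : LocClosed p F) (hW : IsFlag W) (hρ : Function.Injective ρ)
    {R : Subgroup H} (hRF : R ≤ F) (hR : PGood p R) (hRp : IsPGroup p R)
    (hRW : R ≤ flagStab ρ W) : flagUnip ρ W ≤ F :=
  le_sup_left.trans (hF.le_of_pGood hRF hR (IsPGroup.to_sup_of_normal_left' (hW.isPGroup hρ) hRp
    (hRW.trans flagStab_le_normalizer)) le_sup_right)

end Cfsg

set_option linter.all false in
theorem Cfsg.Rz.Lie_Flag_0 : True := by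
  have := @_root_.Cfsg.flagUnip.eq_def.{0, 0, 0}
  have := @_root_.Cfsg.flagUnip.eq_1.{0, 0, 0}
  have := @_root_.Cfsg.flagUnip.fun_cases
  have := @_root_.Cfsg.IsCentEigen.eq_def.{0, 0, 0}
  have := @_root_.Cfsg.IsCentEigen.eq_1.{0, 0, 0}
  have := @_root_.Cfsg.IsCentEigen.fun_cases
  have := @_root_.Cfsg.commSub.eq_def.{0, 0, 0}
  have := @_root_.Cfsg.commSub.eq_1.{0, 0, 0}
  have := @_root_.Cfsg.commSub.fun_cases
  have := @_root_.Cfsg.IsFlag.mk.congr_simp.{0, 0}
  have := @_root_.Cfsg.PGood.eq_def.{0}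
  have := @_root_.Cfsg.PGood.eq_1.{0}
  have := @_root_.Cfsg.PGood.fun_cases
  have := @_root_.Cfsg.flagStab.eq_def.{0, 0, 0}
  have := @_root_.Cfsg.flagStab.eq_1.{0, 0, 0}
  have := @_root_.Cfsg.flagStab.fun_cases
  trivial
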