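import Cfsg.Agent.Lie.ChevCol
import Cfsg.Prelude.Def_Classical

/-!
# Rigidity of the projective special linear groups
-/

set_option autoImplicit false
set_option linter.unusedSectionVars false
set_option linter.unusedVariables false
set_option linter.style.haveILetI false

namespace Cfsg

open Subgroup

universe u v w

variable {K : Type u} [Field K] {V : Type v} [AddCommGroup V] [Module K V] {H : Type w} [Group H]
  {ρ : Representation K H V} {p : ℕ}

/-- The flag `V ≥ X ≥ Y ≥ 0`. -/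
def flagTwo (X Y : Submodule K V) : ℕ → Submodule K V
  | 0 => ⊤
  | 1 => X
  | 2 => Y
  | _ + 3 => ⊥

theorem isFlag_flagTwo {X Y : Submodule K V} (h : Y ≤ X) : IsFlag (flagTwo X Y) where
  zero := rfl
  anti
    | 0 => le_top
    | 1 => h
    | 2 => bot_le
    | _ + 3 => le_rfl
  fin := ⟨3, rfl⟩

variable [Finite H]

theorem mem_stab_flagTwo {X Y : Submodule K V} {g : H} (hX : ∀ v ∈ X, ρ g v ∈ X)
    (hY : ∀ v ∈ Y, ρ g v ∈ Y) : g ∈ flagStab ρ (flagTwo X Y) :=
  mem_flagStab.2 fun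
    | 0 => fun _ _ => trivial
    | 1 => hX
    | 2 => hY
    | _ + 3 => fun v hv => by rw [show v = 0 from hv, map_zero]; exact zero_mem _

theorem mem_unip_flagTwo {X Y : Submodule K V} (h : Y ≤ X) {g : H} (h0 : ∀ v, ρ g v - v ∈ X)
    (hX : ∀ v ∈ X, ρ g v - v ∈ Y) (hY : ∀ v ∈ Y, ρ g v = v) : g ∈ flagUnip ρ (flagTwo X Y) :=
  (isFlag_flagTwo h).mem_flagUnip.2 fun
    | 0 => fun v _ => h0 v
    | 1 => hX
    | 2 => fun v hv => by rw [hY v hv, sub_self]; exact zero_mem _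
    | _ + 3 => fun v hv => by rw [show v = 0 from hv, map_zero, sub_self]; exact zero_mem _

variable [Fact p.Prime] [CharP K p] {F : Subgroup H}

theorem LocClosed.eq_top_of_transvections (hF : LocClosed p F) (hρ : Function.Injective ρ)
    (ht : ∀ (φ : V →ₗ[K] K) (v : V), φ v = 0 → ∃ g : H, ∀ w, ρ g w = w + φ w • v)
    {φ : V →ₗ[K] K} {w₀ : V} (h₀ : φ w₀ = 1)
    (hU : flagUnip ρ (flagTwo (LinearMap.ker φ) ⊥) ≤ F) : F = ⊤ := by
  have tr : ∀ {D : Submodule K V} {χ : V →ₗ[K] K} {v : V} {g : H}, D ≤ LinearMap.ker χ → v ∈ D →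
      (∀ w, ρ g w = w + χ w • v) → g ∈ flagUnip ρ (flagTwo D ⊥) := fun {D χ v g} h1 h2 hg =>
    mem_unip_flagTwo bot_le (fun w => by rw [hg, add_sub_cancel_left]; exact D.smul_mem _ h2)
      (fun w hw => by rw [hg, show χ w = 0 from h1 hw]; simp)
      fun w hw => by rw [show w = 0 from hw, map_zero]
  have hc : ∀ {D : Submodule K V}, D ≤ LinearMap.ker φ → D ≤ commSub ρ (flagUnip ρ (flagTwo D ⊥)) :=
    fun {D} hD v hv => by
      obtain ⟨g, hg⟩ := ht φ v (hD hv)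
      simpa [hg, h₀] using sub_mem_commSub (ρ := ρ) (tr hD hv hg) w₀
  have hP := hF.flagStab_le (isFlag_flagTwo bot_le) hρ hU ((isFlag_flagTwo bot_le).pGood_of_one hρ
    le_rfl (e := w₀) fun v => ⟨φ v, hc le_rfl (by simp [h₀])⟩) le_rfl
  have hP' : ∀ g : H, (∀ w, φ w = 0 → φ (ρ g w) = 0) → g ∈ flagStab ρ (flagTwo (LinearMap.ker φ) ⊥) :=
    fun g hg => mem_stab_flagTwo hg fun v hv => by rw [show v = 0 from hv, map_zero]; exact zero_mem _
  by_cases h1 : ∃ e, φ e = 0 ∧ ∀ x, φ x = 0 → ∃ c : K, x = c • e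
  · obtain ⟨e, he, h1⟩ := h1
    have h2 : ∀ g : H, φ (ρ g e) = 0 → g ∈ flagStab ρ (flagTwo (LinearMap.ker φ) ⊥) :=
      fun g hg => hP' g fun w hw => by obtain ⟨c, rfl⟩ := h1 w hw; simp [hg]
    by_cases h3 : ∃ w, w ∉ flagStab ρ (flagTwo (LinearMap.ker φ) ⊥)
    swap
    · exact top_unique fun g _ => hP (by_contra fun h => h3 ⟨g, h⟩)
    obtain ⟨w, hw⟩ := h3
    refine hF.rankOne _ hP _ Cfsg.flagUnip_le ((isFlag_flagTwo bot_le).isPGroup hρ) w fun g hg => ?_
    have a1 : φ (ρ g e) ≠ 0 := fun h => hg (h2 g h)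
    have a2 : φ (ρ w e) ≠ 0 := fun h => hw (h2 w h)
    have a3 : φ ((φ (ρ g e))⁻¹ • ρ g e - (φ (ρ w e))⁻¹ • ρ w e) = 0 := by simp [a1, a2]
    obtain ⟨r, hr⟩ := ht φ _ a3
    refine ⟨r, tr le_rfl a3 hr, h2 _ ?_⟩
    have a4 : ρ g e = ρ (r * w) ((φ (ρ g e) / φ (ρ w e)) • e) := by
      rw [map_smul, rep_mul_apply, hr]
      match_scalars <;> field_simp
      ring
    rw [rep_mul_apply, a4, rep_inv_apply]; simp [he]
  refine top_unique fun g _ => ?_
  set ψ := φ ∘ₗ ρ g with hψ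
  by_cases h2 : ∀ w, φ w = 0 → ψ w = 0
  · exact hP (hP' g h2)
  push Not at h2
  obtain ⟨e, he, he'⟩ := h2
  obtain ⟨d, hd, hd0⟩ : ∃ d ∈ LinearMap.ker φ ⊓ LinearMap.ker ψ, d ≠ 0 := by
    by_contra h
    push Not at h
    exact h1 ⟨e, he, fun x hx => ⟨ψ x / ψ e, sub_eq_zero.1 (h _ ⟨by simp [hx, he], by simp [he']⟩)⟩⟩
  set D := LinearMap.ker φ ⊓ LinearMap.ker ψ
  have hD := hF.flagStab_le (W := flagTwo D ⊥) (isFlag_flagTwo bot_le) hρ
    (fun y hy => hP (hP' y fun w hw => by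
      have := (hy.2 0 w trivial).1
      simpa [hw] using this))
    ((isFlag_flagTwo bot_le).pGood hρ le_rfl fun x hx => by
      have a1 : ∀ χ : V →ₗ[K] K, D ≤ LinearMap.ker χ → ∀ w, χ w • ρ x d = χ (ρ x w) • d :=
        fun χ hχ w => by
          obtain ⟨t, ht⟩ := ht χ d (hχ hd)
          simpa [ht] using rep_comm (ρ := ρ) hx (tr hχ hd ht) w
      have a2 := a1 φ inf_le_left w₀
      rw [h₀, one_smul] at a2
      have a3 : ∀ χ : V →ₗ[K] K, D ≤ LinearMap.ker χ → ∀ w,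
          ρ x w - φ (ρ x w₀) • w ∈ LinearMap.ker χ := fun χ hχ w => by
        have := a1 χ hχ w
        rw [a2, smul_smul] at this
        simp [← smul_left_injective K hd0 this, mul_comm]
      exact ⟨_, fun w => hc inf_le_left ⟨a3 φ inf_le_left w, a3 ψ inf_le_right w⟩⟩) le_rfl
  obtain ⟨t, ht⟩ := ht (ψ - φ) (w₀ + ((1 - ψ w₀) / ψ e) • e) (by simp [h₀, he, he'])
  have a1 : t ∈ F := hD (mem_stab_flagTwo (fun v hv => by
    rw [ht, LinearMap.sub_apply, show φ v = 0 from hv.1, show ψ v = 0 from hv.2]; simpa using hv)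
    fun v hv => by rw [show v = 0 from hv, map_zero]; exact zero_mem _)
  have a2 : g * t⁻¹ ∈ F := hP (hP' _ fun w hw => by
    have := congrArg φ (ht (ρ t⁻¹ w))
    rw [rep_apply_inv, hw] at this
    rw [rep_mul_apply]
    simpa [h₀, he, hψ] using this.symm)
  simpa using mul_mem a2 a1

omit [Finite H] in
theorem det_eq_one_of_unip (p : ℕ) [Fact p.Prime] [CharP K p] {T : Module.End K V} {n : ℕ}
    (h : (T - 1) ^ n = 0) : LinearMap.det T = 1 := by
  have h1 := congrArg LinearMap.det (end_pow_prime_pow (p := p) h 1)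
  rw [one_smul, add_sub_cancel, one_pow, one_smul, map_pow, map_one] at h1
  have h2 := sub_pow_char_pow (LinearMap.det T) 1 (p := p) (n := n)
  rw [h1, one_pow, sub_self] at h2
  exact sub_eq_zero.1 (pow_eq_zero_iff (pow_ne_zero _ (Fact.out : p.Prime).ne_zero) |>.1 h2)

theorem slToMat_injective (n : ℕ) : Function.Injective (slToMat n K) :=
  fun _ _ h => Subtype.ext h

theorem exists_sl_of_unip (p : ℕ) [Fact p.Prime] [CharP K p] {n k : ℕ}
    {T : Module.End K (Fin n → K)} (h : (T - 1) ^ k = 0) :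
    ∃ g : Matrix.SpecialLinearGroup (Fin n) K, ∀ w, Matrix.mulVec (slToMat n K g) w = T w :=
  ⟨⟨LinearMap.toMatrix' T, (LinearMap.det_toMatrix' T).trans (det_eq_one_of_unip p h)⟩,
    fun w => LinearMap.toMatrix'_mulVec T w⟩

theorem pRigid_psl {K : Type} [Field K] [Finite K] [CharP K p] {n : ℕ} (hn : 0 < n)
    [IsSimpleGroup (Matrix.ProjectiveSpecialLinearGroup (Fin n) K)] :
    PRigid p (Matrix.ProjectiveSpecialLinearGroup (Fin n) K) := by
  have hρ := homRep_injective (slToMat_injective (K := K) n)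
  refine pRigid_quotient_center ((isFlag_flagTwo (X := LinearMap.ker (LinearMap.proj ⟨0, hn⟩))
    bot_le).isPGroup hρ) fun F hF hU => hF.eq_top_of_transvections hρ (fun φ v hv => ?_)
      (w₀ := fun _ => 1) rfl hU
  obtain ⟨g, hg⟩ := exists_sl_of_unip p (T := 1 + φ.smulRight v) (k := 2)
    (LinearMap.ext fun w => by simp [sq, hv])
  exact ⟨g, fun w => by rw [homRep_apply, hg]; rfl⟩

end Cfsg

set_option linter.all false in
theorem Cfsg.Rz.Lie_Linear_0 : True := by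
  have := @_root_.Cfsg.flagTwo.eq_def.{0, 0}
  have := @_root_.Cfsg.flagTwo.eq_1.{0, 0}
  have := @_root_.Cfsg.flagTwo.fun_cases
  trivial
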