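import Cfsg.Agent.Lie.Classical
import Cfsg.Agent.Grp.FormOrth

/-!
# Rigidity of the orthogonal groups
-/

set_option autoImplicit false
set_option linter.unusedSectionVars false
set_option linter.unusedVariables false
set_option linter.style.haveILetI false
set_option linter.unusedSimpArgs false

namespace Cfsg

open Subgroup Submodule
open scoped Matrix commutatorElement

variable {p : ℕ} [Fact p.Prime] {K : Type} [Field K] [Finite K] [CharP K p]
  {ι : Type} [Fintype ι] [DecidableEq ι] {Q : (ι → K) → K}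

/-- A nondegenerate quadratic form of Witt index at least two. -/
def OmegaData (Q : (ι → K) → K) : Prop := 4 < Fintype.card ι ∧
  ∃ C : LinearMap.BilinForm K (ι → K), (∀ v, Q v = C v v) ∧
    (∀ u, (∀ v, C u v + C v u = 0) → u = 0) ∧ ∃ u v : ι → K, Q u = 0 ∧ Q v = 0 ∧
      C v u + C u v = 0 ∧ u ≠ 0 ∧ v ∉ span K {u}

theorem OmegaData.polar (h : OmegaData Q) : ∃ (B : LinearMap.BilinForm K (ι → K))
    (ρ : Representation K (Omega K Q) (ι → K)), Polar ρ (RingHom.id K) B {x | Q x = 0} (-1) ∧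
    (∀ x y, Q (x + y) = Q x + Q y + B x y) ∧ (∀ (c : K) x, Q (c • x) = c ^ 2 * Q x) ∧
    (∀ g w, Q (ρ g w) = Q w) ∧ ∃ u v : ι → K, Q u = 0 ∧ Q v = 0 ∧
      B v u = 0 ∧ u ≠ 0 ∧ v ∉ span K {u} := by
  obtain ⟨hι, C, hQ, hC, u, v, hu, hv, huv, hu0, hi⟩ := h
  obtain ⟨B, hB⟩ : ∃ B : LinearMap.BilinForm K (ι → K), ∀ x y, B x y = C x y + C y x :=
    ⟨C + C.flip, fun _ _ => rfl⟩
  have q1 : ∀ x y, Q (x + y) = Q x + Q y + B x y := fun x y => by simp [hQ, hB]; ring
  have q2 : ∀ (c : K) x, Q (c • x) = c ^ 2 * Q x := fun c x => by simp [hQ]; ring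
  have q3 : ∀ x, B x x = 2 * Q x := fun x => by rw [hB, hQ, two_mul]
  have q4 : ∀ x y, B x y = B y x := fun x y => by rw [hB, hB, add_comm]
  have hF : IsPolarForm (RingHom.id K) B :=
    ⟨fun _ => rfl, fun x y h => by rwa [q4], fun x h => hC x fun y => by rw [← hB, q4, h]⟩
  have q5 : ∀ T : Module.End K (ι → K), (∀ w, Q (T w) = Q w) → ∀ x y, B (T x) (T y) = B x y :=
    fun T h x y => by have := h (x + y); rw [map_add, q1, q1, h, h] at this; simpa using this
  let f := (Units.coeHom (Matrix ι ι K)).comp (isometryGroup K Q).subtype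
  have hf : Function.Injective (homRep f) :=
    homRep_injective (Units.val_injective.comp Subtype.val_injective)
  have hI : ∀ (g : isometryGroup K Q) w, Q (homRep f g w) = Q w := fun g w => g.2 w w
  have mk : ∀ T : Module.End K (ι → K), (∀ w, Q (T w) = Q w) →
      ∃ g : isometryGroup K Q, ∀ w, homRep f g w = T w := fun T h => by
    obtain ⟨g, hg⟩ := LinearMap.isUnit_toMatrix'_iff.2 ((LinearMap.isUnit_iff_ker_eq_bot T).2
      (LinearMap.ker_eq_bot'.2 fun x hx => hF.nondeg x fun w => by rw [← q5 T h, hx, map_zero]))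
    have : ∀ w, g.1 *ᵥ w = T w := fun w => by rw [hg, LinearMap.toMatrix'_mulVec]
    exact ⟨⟨g, fun x _ => (congrArg Q (this x)).trans (h x)⟩, this⟩
  have he : ∀ x y, Q x = 0 → B y x = 0 → ∃ g : isometryGroup K Q,
      ∀ w, homRep f g w = eichT B (-1) (-Q y) x y w := fun x y hx h => mk _ fun w => by
    simp only [eichT_apply, q1, q2, hx, map_add, map_smul, LinearMap.add_apply,
      LinearMap.smul_apply, smul_eq_mul, h]
    ring
  have key : ∀ x y, Q x = 0 → B y x = 0 → ∃ g ∈ Omega K Q,
      ∀ w, homRep f g w = eichT B (-1) (-Q y) x y w := fun x y hx h => by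
    have hxx : B x x = 0 := by rw [q3, hx, mul_zero]
    have a1 : ∀ a, Q a ≠ 0 → B a x = 0 → ∃ g ∈ Omega K Q,
        ∀ w, homRep f g w = eichT B (-1) (-Q a) x a w := fun a ha h => by
      obtain ⟨r, hr⟩ := mk (1 - (Q a)⁻¹ • (B.flip a).smulRight a) fun w => by
        have : (1 - (Q a)⁻¹ • (B.flip a).smulRight a : Module.End K _) w =
          w + (-((Q a)⁻¹ * B w a)) • a := by simp [sub_eq_add_neg, mul_smul]
        rw [this, q1, q2, map_smul, smul_eq_mul]; field_simp; ring
      replace hr : ∀ w, homRep f r w = w - ((Q a)⁻¹ * B w a) • a := fun w => by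
        simp [hr, mul_smul]
      obtain ⟨z, b1, b2⟩ := hF.exists_eq_zero_one (u := x) (v := a) fun h1 => by
        obtain ⟨c, rfl⟩ := mem_span_singleton.1 h1
        exact ha (by rw [q2, hx, mul_zero])
      obtain ⟨z', b3, b4⟩ : ∃ z', B z' x = 0 ∧ B z' a = -Q a := ⟨-Q a • z, by simp [b1], by simp [b2]⟩
      obtain ⟨g, hg⟩ := he x z' hx b3
      obtain ⟨e, he⟩ := he x a hx h
      have b5 : r * g = e * g * r := hf (LinearMap.ext fun w => by
        simp only [rep_mul_apply, hr, hg, he, eichT_apply, map_add, map_sub, map_smul,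
          LinearMap.add_apply, LinearMap.sub_apply, LinearMap.smul_apply, smul_eq_mul, b3, b4, hxx,
          h, q4 x a, q4 a z', q3 a]
        match_scalars <;> field_simp <;> ring)
      refine ⟨e, ?_, he⟩
      rw [show e = ⁅r, g⁆ by rw [commutatorElement_def, b5]; group]
      exact commutator_mem_commutator trivial trivial
    by_cases hy : Q y = 0
    swap
    · exact a1 y hy h
    obtain ⟨a, ha, b1, b2⟩ : ∃ a, Q a ≠ 0 ∧ B a x = 0 ∧ B a y = 0 := by
      obtain ⟨z, w, b1, b2, b3⟩ := hF.exists_perp_ne (by simpa using hι) x y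
      by_contra! h1
      have b4 : ∀ a, B a x = 0 ∧ B a y = 0 → Q a = 0 := fun a h => by_contra fun h' => h1 a h' h.1 h.2
      have := q1 w z
      rw [b4 z b1, b4 w b2, b4 (w + z) (by simp [b1, b2])] at this
      exact b3 (by simpa using this.symm)
    have b3 : Q (y + a) = Q a := by rw [q1, hy, q4, b2]; simp
    have b4 : Q (-a) = Q a := by simpa using q2 (-1) a
    obtain ⟨g, hg, c1⟩ := a1 (y + a) (b3 ▸ ha) (by simp [h, b1])
    obtain ⟨g', hg', c2⟩ := a1 (-a) (b4 ▸ ha) (by simp [b1])
    refine ⟨g * g', mul_mem hg hg', fun w => ?_⟩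
    simp only [rep_mul_apply, c1, c2, eichT_apply, map_add, map_neg, map_smul,
      LinearMap.add_apply, LinearMap.neg_apply, LinearMap.smul_apply, smul_eq_mul, b1, b2, b3, b4,
      hxx, h, hy, q4 x a, q4 x y, q3 a]
    match_scalars <;> ring
  have hP : Polar (homRep (f.comp (Omega K Q).subtype)) (RingHom.id K) B {x | Q x = 0} (-1) :=
    { hF with
      inj := fun a b h => Subtype.ext (hf h)
      iso := fun g => q5 _ (hI g)
      sing := fun g x hx => (hI g x).trans hx
      self := fun x hx => by rw [q3, show Q x = 0 from hx, mul_zero]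
      comb := fun x hx y hy h a b => by
        simp [q1, q2, h, show Q x = 0 from hx, show Q y = 0 from hy]
      ne := by simp
      eich := fun x hx y h => by
        obtain ⟨g, hg, h1⟩ := key x y hx h
        exact ⟨⟨g, hg⟩, _, h1⟩ }
  exact ⟨B, _, hP, q1, q2, fun g => hI g, u, v, hu, hv, (hB v u).trans huv, hu0, hi⟩

theorem OmegaData.pRigid (h : OmegaData Q) [IsSimpleGroup (POmega K Q)] :
    PRigid p (POmega K Q) := by
  obtain ⟨B, ρ, hP, -, -, -, u, v, hu, hv, huv, hu0, hi⟩ := h.polar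
  exact pRigid_quotient_center ((isFlag_flagTwo (hP.le_perp_one (u := u) hu)).isPGroup hP.inj)
    fun F h' hU => hP.eq_top h' (.inr (hP.exists_perp_ne (by simpa using h.1))) hu hv huv hu0 hi hU

theorem omegaData_plus {m : ℕ} (hm : 3 ≤ m) : OmegaData (quadFormPlus m K) := by
  refine ⟨by simp; omega, ∑ i : Fin m, coordForm K (.inl i) (.inr i),
    fun v => by simp [quadFormPlus, LinearMap.sum_apply], fun u h => funext ?_,
    Pi.single (.inl ⟨0, by omega⟩) 1, Pi.single (.inl ⟨1, by omega⟩) 1,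
    by simp [quadFormPlus], by simp [quadFormPlus], by simp [LinearMap.sum_apply], by simp,
    single_notMem_span (i := .inl ⟨1, by omega⟩) (by simp) (by simp)⟩
  rintro (i | i)
  · simpa [LinearMap.sum_apply, Pi.single_apply] using h (Pi.single (.inr i) 1)
  · simpa [LinearMap.sum_apply, Pi.single_apply] using h (Pi.single (.inl i) 1)

theorem omegaData_odd {m : ℕ} (hm : 2 ≤ m) (h2 : (2 : K) ≠ 0) : OmegaData (quadFormOdd m K) := by
  refine ⟨by simp; omega, coordForm K (.inl ()) (.inl ()) +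
    ∑ i : Fin m, coordForm K (.inr (.inl i)) (.inr (.inr i)),
    fun v => by simp [quadFormOdd, LinearMap.sum_apply, sq], fun u h => funext ?_,
    Pi.single (.inr (.inl ⟨0, by omega⟩)) 1, Pi.single (.inr (.inl ⟨1, by omega⟩)) 1,
    by simp [quadFormOdd], by simp [quadFormOdd], by simp [LinearMap.sum_apply], by simp,
    single_notMem_span (i := .inr (.inl ⟨1, by omega⟩)) (by simp) (by simp)⟩
  rintro (i | i | i)
  · simpa [LinearMap.sum_apply, ← two_mul, h2] using h (Pi.single (.inl ()) 1)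
  · simpa [LinearMap.sum_apply, Pi.single_apply] using h (Pi.single (.inr (.inr i)) 1)
  · simpa [LinearMap.sum_apply, Pi.single_apply] using h (Pi.single (.inr (.inl i)) 1)

theorem omegaData_minus {m : ℕ} (hm : 2 ≤ m) {a b : K}
    (hab : ∀ z₁ z₂ : K, z₁ ^ 2 + a * z₁ * z₂ + b * z₂ ^ 2 = 0 → z₁ = 0 ∧ z₂ = 0) :
    OmegaData (quadFormMinus m K a b) := by
  have hd : a ^ 2 - 4 * b ≠ 0 := fun h => by
    obtain ⟨h1, h2⟩ := hab (-a) 2 (by linear_combination -h)
    obtain ⟨c, hc⟩ := FiniteField.isSquare_of_char_two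
      (CharP.ringChar_of_prime_eq_zero (R := K) Nat.prime_two (by exact_mod_cast h2)) b
    exact one_ne_zero (hab c 1 (by linear_combination b * h2 - hc - c * h1)).2
  refine ⟨by simp; omega, ∑ i : Fin m, coordForm K (.inl (.inl i)) (.inl (.inr i)) +
      (coordForm K (.inr 0) (.inr 0) + a • coordForm K (.inr 0) (.inr 1) +
        b • coordForm K (.inr 1) (.inr 1)),
    fun v => by simp [quadFormMinus, LinearMap.sum_apply, pow_two, mul_assoc],
    fun u h => funext ?_,
    Pi.single (.inl (.inl ⟨0, by omega⟩)) 1, Pi.single (.inl (.inl ⟨1, by omega⟩)) 1,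
    by simp [quadFormMinus], by simp [quadFormMinus], by simp [LinearMap.sum_apply], by simp,
    single_notMem_span (i := .inl (.inl ⟨1, by omega⟩)) (by simp) (by simp)⟩
  have h0 := h (Pi.single (.inr 0) 1)
  have h1 := h (Pi.single (.inr 1) 1)
  simp [LinearMap.sum_apply] at h0 h1
  rintro ((i | i) | i)
  · simpa [LinearMap.sum_apply, Pi.single_apply] using h (Pi.single (.inl (.inr i)) 1)
  · simpa [LinearMap.sum_apply, Pi.single_apply] using h (Pi.single (.inl (.inl i)) 1)
  · fin_cases i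
    · exact mul_left_cancel₀ hd (show _ * u (.inr 0) = _ * 0 by
        linear_combination a * h1 - 2 * b * h0)
    · exact mul_left_cancel₀ hd (show _ * u (.inr 1) = _ * 0 by
        linear_combination a * h0 - 2 * h1)

end Cfsg

set_option linter.all false in
theorem Cfsg.Rz.Lie_Orth_0 : True := by
  have := @_root_.Cfsg.OmegaData.eq_def
  have := @_root_.Cfsg.OmegaData.eq_1
  have := @_root_.Cfsg.OmegaData.fun_cases
  trivial
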