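import Cfsg.Agent.Lie.Linear

/-!
# Rigidity for groups acting on polar spaces with Eichler transformations
-/

set_option autoImplicit false
set_option linter.unusedSectionVars false
set_option linter.unusedVariables false
set_option linter.style.haveILetI false

namespace Cfsg

open Subgroup Submodule

universe u v w

variable {K : Type u} [Field K] {V : Type v} [AddCommGroup V] [Module K V] {H : Type w} [Group H]
  {ρ : Representation K H V} {p : ℕ} {σ : K →+* K} {B : V →ₗ[K] V →ₛₗ[σ] K} {Sg : Set V} {α : K}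

/-- A reflexive nondegenerate form. -/
structure IsPolarForm (σ : K →+* K) (B : V →ₗ[K] V →ₛₗ[σ] K) : Prop where
  invol : ∀ x, σ (σ x) = x
  refl : ∀ u v, B u v = 0 → B v u = 0
  nondeg : ∀ u, (∀ w, B w u = 0) → u = 0

/-- A group of isometries containing Eichler transformations; `Sg` is the set of singular
vectors. -/
structure Polar (ρ : Representation K H V) (σ : K →+* K) (B : V →ₗ[K] V →ₛₗ[σ] K) (Sg : Set V)
    (α : K) : Prop extends IsPolarForm σ B where
  inj : Function.Injective ρ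
  iso : ∀ g u v, B (ρ g u) (ρ g v) = B u v
  sing : ∀ g, ∀ u ∈ Sg, ρ g u ∈ Sg
  self : ∀ u ∈ Sg, B u u = 0
  comb : ∀ u ∈ Sg, ∀ v ∈ Sg, B u v = 0 → ∀ a b : K, a • u + b • v ∈ Sg
  ne : α ≠ 0
  eich : ∀ u ∈ Sg, ∀ v, B v u = 0 → ∃ (g : H) (μ : K),
    ∀ w, ρ g w = w + B w u • v + (α * B w v + μ * B w u) • u

/-- The orthogonal complement. -/
def perpS (B : V →ₗ[K] V →ₛₗ[σ] K) (X : Submodule K V) : Submodule K V where
  carrier := {w | ∀ x ∈ X, B w x = 0}
  add_mem' {a b} ha hb x hx := by rw [map_add, LinearMap.add_apply, ha x hx, hb x hx, add_zero]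
  zero_mem' x hx := by simp
  smul_mem' c w hw x hx := by rw [map_smul, LinearMap.smul_apply, hw x hx, smul_zero]

theorem mem_perpS_span {s : Set V} {w : V} : w ∈ perpS B (span K s) ↔ ∀ x ∈ s, B w x = 0 :=
  ⟨fun h x hx => h x (subset_span hx), fun h x hx =>
    (span_le (p := LinearMap.ker (B w))).2 h hx⟩

/-- The flag of a totally singular subspace. -/
abbrev tsFlag (B : V →ₗ[K] V →ₛₗ[σ] K) (X : Submodule K V) : ℕ → Submodule K V :=
  flagTwo (perpS B X) X

namespace IsPolarForm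

variable (h : IsPolarForm σ B)
include h

theorem exists_eq_one {u : V} (hu : u ≠ 0) : ∃ w, B w u = 1 := by
  obtain ⟨w, hw⟩ := not_forall.1 (mt (h.nondeg u) hu)
  exact ⟨(B w u)⁻¹ • w, by simp [inv_mul_cancel₀ hw]⟩

theorem exists_eq_zero_one {u v : V} (hv : v ∉ span K {u}) : ∃ w, B w u = 0 ∧ B w v = 1 := by
  by_contra h1
  have h2 : ∀ w, B w u = 0 → B w v = 0 := fun w hw => by_contra fun h3 =>
    h1 ⟨(B w v)⁻¹ • w, by simp [hw], by simp [inv_mul_cancel₀ h3]⟩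
  by_cases hu : u = 0
  · exact hv (by rw [h.nondeg v fun w => h2 w (by simp [hu])]; exact zero_mem _)
  obtain ⟨w₀, h₀⟩ := h.exists_eq_one hu
  refine hv (mem_span_singleton.2 ⟨σ (B w₀ v), (sub_eq_zero.1 (h.nondeg _ fun w => ?_)).symm⟩)
  have := h2 (w - B w u • w₀) (by simp [h₀])
  simp only [map_sub, map_smul, LinearMap.sub_apply, LinearMap.smul_apply, smul_eq_mul,
    LinearMap.map_smulₛₗ, h.invol] at this ⊢
  linear_combination this

theorem exists_perp_ne [FiniteDimensional K V] (hd : 4 < Module.finrank K V) (x y : V) :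
    ∃ v w, (B v x = 0 ∧ B v y = 0) ∧ (B w x = 0 ∧ B w y = 0) ∧ B w v ≠ 0 := by
  by_contra h1
  push Not at h1
  let f : V →ₗ[K] K × K := (B.flip x).prod (B.flip y)
  have h2 : LinearMap.ker f ≤ span K {x, y} := fun v hv => by
    have hv' : B v x = 0 ∧ B v y = 0 := Prod.ext_iff.1 hv
    by_cases hy : y ∈ span K {x}
    · by_contra h3
      obtain ⟨w, a1, a2⟩ := h.exists_eq_zero_one (u := x) (v := v)
        fun h4 => h3 (span_mono (by simp) h4)
      obtain ⟨c, rfl⟩ := mem_span_singleton.1 hy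
      exact one_ne_zero (a2.symm.trans (h1 v w hv' ⟨a1, by simp [a1]⟩))
    obtain ⟨w₁, a1, a2⟩ := h.exists_eq_zero_one hy
    have h3 : v - σ (B w₁ v) • y ∈ span K {x} := by
      by_contra h3
      obtain ⟨w, a3, a4⟩ := h.exists_eq_zero_one h3
      have := h1 v (w - B w y • w₁) hv' ⟨by simp [a1, a3], by simp [a2]⟩
      simp only [map_sub, map_smul, LinearMap.sub_apply, LinearMap.smul_apply, smul_eq_mul,
        LinearMap.map_smulₛₗ, h.invol] at this a4
      exact one_ne_zero (by linear_combination this - a4 : (1 : K) = 0)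
    simpa using add_mem (span_mono (by simp) h3 : _ ∈ span K {x, y})
      (Submodule.smul_mem _ (σ (B w₁ v)) (subset_span (by simp) : y ∈ span K {x, y}))
  have h3 := LinearMap.finrank_range_add_finrank_ker f
  have h4 : Module.finrank K (LinearMap.range f) ≤ 2 := by
    simpa using (LinearMap.range f).finrank_le
  have h5 : Module.finrank K (span K ({x, y} : Set V)) ≤ 2 := by
    classical
    have := (finrank_span_finset_le_card (R := K) {x, y}).trans Finset.card_le_two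
    rwa [Set.finrank, Finset.coe_pair] at this
  have h6 := Submodule.finrank_mono h2
  omega

end IsPolarForm

namespace Polar

variable [Finite H] (h : Polar ρ σ B Sg α)
include h

theorem mem_stab {X : Submodule K V} {g : H} (hg : ∀ v ∈ X, ρ g v ∈ X) :
    g ∈ flagStab ρ (tsFlag B X) :=
  mem_stab_flagTwo (fun w hw x hx => by
    rw [← rep_apply_inv ρ g x, h.iso]
    exact hw _ ((rep_mem_iff_of_finite hg _).1 (by rwa [rep_apply_inv]))) hg

theorem mem_unip {X : Submodule K V} (hX : X ≤ perpS B X) {g : H} {u v : V} {μ : K} (hu : u ∈ X)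
    (hv : v ∈ perpS B X) (hg : ∀ w, ρ g w = w + B w u • v + (α * B w v + μ * B w u) • u) :
    g ∈ flagUnip ρ (tsFlag B X) :=
  mem_unip_flagTwo hX (fun w => by
    rw [hg, add_assoc, add_sub_cancel_left]
    exact add_mem (Submodule.smul_mem _ _ hv) (Submodule.smul_mem _ _ (hX hu)))
    (fun w hw => by
      rw [hg, hw u hu, zero_smul, add_zero, add_sub_cancel_left]; exact X.smul_mem _ hu)
    fun w hw => by rw [hg, hX hw u hu, h.refl _ _ (hv w hw)]; simp

theorem mem_commSub {X : Submodule K V} (hX : X ≤ perpS B X) {u v : V} (hu : u ∈ X) (hu' : u ∈ Sg)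
    (hv : v ∈ perpS B X) (huv : v ∉ span K {u}) : u ∈ commSub ρ (flagUnip ρ (tsFlag B X)) := by
  obtain ⟨g, μ, hg⟩ := h.eich u hu' v (hv u hu)
  obtain ⟨w, a1, a2⟩ := h.exists_eq_zero_one huv
  have := sub_mem_commSub (ρ := ρ) (h.mem_unip hX hu hv hg) w
  rw [hg, a1, a2] at this
  exact (smul_mem_iff _ h.ne).1 (by simpa using this)

theorem perp_le_commSub {X : Submodule K V} (hX : X ≤ perpS B X) {u : V} (hu : u ∈ X)
    (hu' : u ∈ Sg) (hu0 : u ≠ 0) (h1 : u ∈ commSub ρ (flagUnip ρ (tsFlag B X))) :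
    perpS B X ≤ commSub ρ (flagUnip ρ (tsFlag B X)) := fun v hv => by
  obtain ⟨g, μ, hg⟩ := h.eich u hu' v (hv u hu)
  obtain ⟨w, a1⟩ := h.exists_eq_one hu0
  have := sub_mem (sub_mem_commSub (ρ := ρ) (h.mem_unip hX hu hv hg) w)
    (Submodule.smul_mem _ (α * B w v + μ * B w u) h1)
  rw [hg, a1] at this
  convert this using 1; module

theorem le_perp_one {u : V} (hu : u ∈ Sg) : span K {u} ≤ perpS B (span K {u}) :=
  span_le.2 fun x hx => mem_perpS_span.2 fun y hy => by rw [hx, hy]; exact h.self u hu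

theorem le_perp_two {x y : V} (hx : x ∈ Sg) (hy : y ∈ Sg) (hxy : B x y = 0) :
    span K {x, y} ≤ perpS B (span K {x, y}) :=
  span_le.2 fun a ha => mem_perpS_span.2 fun b hb => by
    rcases ha with rfl | rfl <;> rcases hb with rfl | rfl
    exacts [h.self _ hx, hxy, h.refl _ _ hxy, h.self _ hy]

variable [Fact p.Prime] [CharP K p] {F : Subgroup H}

theorem stab_le (hF : LocClosed p F) {u v : V} (hu : u ∈ Sg) (hu0 : u ≠ 0) (hv : B v u = 0)
    (huv : v ∉ span K {u}) (hU : flagUnip ρ (tsFlag B (span K {u})) ≤ F) :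
    flagStab ρ (tsFlag B (span K {u})) ≤ F := by
  have hX := h.le_perp_one hu
  have h1 := mem_span_singleton_self (R := K) u
  obtain ⟨w, a1⟩ := h.exists_eq_one hu0
  exact hF.flagStab_le (isFlag_flagTwo hX) h.inj hU ((isFlag_flagTwo hX).pGood_of_one h.inj le_rfl
    (e := w) fun x => ⟨B x u, h.perp_le_commSub hX h1 hu hu0 (h.mem_commSub hX h1 hu
      (mem_perpS_span.2 (by simpa using hv)) huv) (mem_perpS_span.2 (by simp [a1]))⟩) le_rfl

theorem pGood_line
    (hc : (∀ z ∈ Sg, ∃ (g : H) (μ : K), μ ≠ 0 ∧ ∀ w, ρ g w = w + (μ * B w z) • z) ∨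
      ∀ x y, ∃ v w, (B v x = 0 ∧ B v y = 0) ∧ (B w x = 0 ∧ B w y = 0) ∧ B w v ≠ 0)
    {x y : V} (hx : x ∈ Sg) (hy : y ∈ Sg) (hxy : B x y = 0) (hx0 : x ≠ 0) (hi : y ∉ span K {x}) :
    PGood p (flagUnip ρ (tsFlag B (span K {x, y}))) := by
  have hX := h.le_perp_two hx hy hxy
  set X := span K ({x, y} : Set V)
  have hxX : x ∈ X := subset_span (by simp)
  have hyX : y ∈ X := subset_span (by simp)
  have hS := h.perp_le_commSub hX hxX hx hx0 (h.mem_commSub hX hxX hx (hX hyX) hi)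
  have hW := isFlag_flagTwo hX
  refine hW.pGood h.inj le_rfl fun g hg => ?_
  have h1 : ∀ z ∈ X, z ∈ Sg → z ≠ 0 → ∃ c : K, ρ g z = c • z := fun z hz hz' hz0 => by
    rcases hc with hc | hc
    · obtain ⟨t, μ, hμ, ht⟩ := hc z hz'
      obtain ⟨w, a1⟩ := h.exists_eq_one hz0
      have := rep_comm (ρ := ρ) hg (h.mem_unip hX hz (zero_mem _) (μ := μ) (by simpa using ht)) w
      rw [ht, ht, a1, map_add, map_smul, add_right_inj, mul_one, mul_smul] at this
      exact ⟨_, smul_right_injective V hμ this⟩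
    · obtain ⟨v, w, a1, a2, a3⟩ := hc x y
      have hv : v ∈ perpS B X := mem_perpS_span.2 (by simpa using a1)
      have hw : w ∈ perpS B X := mem_perpS_span.2 (by simpa using a2)
      obtain ⟨t, μ, ht⟩ := h.eich z hz' v (hv z hz)
      have a4 : ρ g w ∈ perpS B X := hW.commSub_le_one le_rfl
        (apply_mem_commSub (centralizer_le_normalizer _ hg) (hS hw))
      have := rep_comm (ρ := ρ) hg (h.mem_unip hX hz hv ht) w
      rw [ht, ht, hw z hz, a4 z hz] at this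
      simp only [zero_smul, add_zero, mul_zero, map_add, map_smul, add_right_inj] at this
      refine ⟨(α * B w v)⁻¹ * (α * B (ρ g w) v), ?_⟩
      rw [mul_smul, ← this, inv_smul_smul₀ (mul_ne_zero h.ne a3)]
  have hind : ∀ a b : K, a • x + b • y = 0 → a = 0 ∧ b = 0 := fun a b hab => by
    have hb : b = 0 := by_contra fun hb => hi (mem_span_singleton.2 ⟨-(b⁻¹ * a), by
      rw [← inv_smul_smul₀ hb y, eq_neg_of_add_eq_zero_right hab]; module⟩)
    exact ⟨by simpa [hb, hx0] using hab, hb⟩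
  obtain ⟨a, ha⟩ := h1 x hxX hx hx0
  obtain ⟨b, hb⟩ := h1 y hyX hy fun h0 => hi (h0 ▸ zero_mem _)
  obtain ⟨c, hc⟩ := h1 (x + y) (add_mem hxX hyX) (by simpa using h.comb x hx y hy hxy 1 1)
    fun h0 => one_ne_zero (hind 1 1 (by simpa using h0)).1
  rw [map_add, ha, hb] at hc
  obtain ⟨h2, h3⟩ := hind (a - c) (b - c) (by rw [← sub_eq_zero] at hc; rw [← hc]; module)
  have h4 : b = a := by linear_combination h3 - h2
  have h5 : σ a ≠ 0 := fun h0 => hx0 (by
    rw [← rep_inv_apply ρ g x, ha, ← h.invol a, h0]; simp)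
  refine ⟨(σ a)⁻¹, fun w => hS (mem_perpS_span.2 ?_)⟩
  have h6 : ∀ z, ρ g z = a • z → B (ρ g w - (σ a)⁻¹ • w) z = 0 := fun z hz => by
    have := h.iso g w z
    rw [hz, LinearMap.map_smulₛₗ, smul_eq_mul] at this
    simp [← this, h5]
  rintro z (rfl | rfl)
  exacts [h6 _ ha, h6 _ (h4 ▸ hb)]

theorem step (hF : LocClosed p F)
    (hc : (∀ z ∈ Sg, ∃ (g : H) (μ : K), μ ≠ 0 ∧ ∀ w, ρ g w = w + (μ * B w z) • z) ∨
      ∀ x y, ∃ v w, (B v x = 0 ∧ B v y = 0) ∧ (B w x = 0 ∧ B w y = 0) ∧ B w v ≠ 0)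
    {x y : V} (hx : x ∈ Sg) (hy : y ∈ Sg) (hxy : B x y = 0) (hx0 : x ≠ 0) (hy0 : y ≠ 0)
    (hP : ∀ g : H, ρ g x ∈ span K {x} → g ∈ F) :
    (∀ g : H, ρ g y ∈ span K {y} → g ∈ F) ∧ ∃ f ∈ F, ρ f x ∈ span K {y} := by
  by_cases hi : y ∈ span K {x}
  · obtain ⟨c, rfl⟩ := mem_span_singleton.1 hi
    have hc : c ≠ 0 := fun h0 => hy0 (by simp [h0])
    rw [span_singleton_smul_eq hc.isUnit]
    exact ⟨fun g hg => hP g (by rwa [map_smul, smul_mem_iff _ hc] at hg), 1, one_mem _, by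
      rw [map_one]; exact mem_span_singleton_self x⟩
  have hX := h.le_perp_two hx hy hxy
  have h1 := hF.flagStab_le (isFlag_flagTwo hX) h.inj (fun g hg => hP g (by
    rw [sub_eq_zero.1 (hg.2 2 x (subset_span (by simp)))]; exact mem_span_singleton_self x))
    (h.pGood_line hc hx hy hxy hx0 hi) le_rfl
  have hu : y - x ∈ Sg := by simpa [neg_add_eq_sub] using h.comb x hx y hy hxy (-1) 1
  obtain ⟨w, a1, a2⟩ := h.exists_eq_zero_one (u := y - x) (v := x) fun h2 => by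
    obtain ⟨c, hc⟩ := mem_span_singleton.1 h2
    have hc0 : c ≠ 0 := fun h0 => hx0 (by rw [← hc, h0, zero_smul])
    refine hi (mem_span_singleton.2 ⟨1 + c⁻¹, ?_⟩)
    conv_lhs => rw [add_smul]; enter [2]; rw [← hc, inv_smul_smul₀ hc0]
    simp
  have a3 : B x w ≠ 0 := fun h0 => one_ne_zero (a2.symm.trans (h.refl _ _ h0))
  obtain ⟨f, μ, hf⟩ := h.eich (y - x) hu (σ (α * B x w)⁻¹ • w) (by simp [a1])
  have a4 : B x (y - x) = 0 := by simp [hxy, h.self x hx]
  have h2 : ρ f x = y := by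
    rw [hf, a4, LinearMap.map_smulₛₗ, h.invol, smul_eq_mul,
      show α * ((α * B x w)⁻¹ * B x w) = 1 by have := h.ne; field_simp]
    simp
  have h3 : ρ f (y - x) = y - x := by
    rw [hf, h.self _ hu, LinearMap.map_smulₛₗ, h.refl _ _ a1]; simp
  have h4 : f ∈ F := h1 (h.mem_stab fun v hv => (span_le (p := (span K {x, y}).comap (ρ f))).2 (by
    have b1 : x ∈ span K ({x, y} : Set V) := subset_span (by simp)
    have b2 : y ∈ span K ({x, y} : Set V) := subset_span (by simp)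
    rintro z (rfl | rfl)
    · simpa [h2] using b2
    · rw [map_sub, h2, sub_eq_iff_eq_add] at h3
      simpa [h3] using add_mem (sub_mem b2 b1) b2) hv)
  refine ⟨fun g hg => ?_, f, h4, h2 ▸ mem_span_singleton_self _⟩
  obtain ⟨c, hc⟩ := mem_span_singleton.1 hg
  have h5 : f⁻¹ * g * f ∈ F := hP _ (mem_span_singleton.2 ⟨c, by
    rw [rep_mul_apply, rep_mul_apply, h2, ← hc, map_smul, ← h2, rep_inv_apply]⟩)
  simpa [mul_assoc] using mul_mem (mul_mem h4 h5) (inv_mem h4)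

theorem eq_top (hF : LocClosed p F)
    (hc : (∀ z ∈ Sg, ∃ (g : H) (μ : K), μ ≠ 0 ∧ ∀ w, ρ g w = w + (μ * B w z) • z) ∨
      ∀ x y, ∃ v w, (B v x = 0 ∧ B v y = 0) ∧ (B w x = 0 ∧ B w y = 0) ∧ B w v ≠ 0)
    {u v : V} (hu : u ∈ Sg) (hv : v ∈ Sg) (huv : B v u = 0) (hu0 : u ≠ 0) (hi : v ∉ span K {u})
    (hU : flagUnip ρ (tsFlag B (span K {u})) ≤ F) : F = ⊤ := by
  have hP : ∀ g : H, ρ g u ∈ span K {u} → g ∈ F := fun g hg =>
    h.stab_le hF hu hu0 huv hi hU (h.mem_stab fun x hx => by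
      obtain ⟨c, rfl⟩ := mem_span_singleton.1 hx
      rw [map_smul]; exact Submodule.smul_mem _ _ hg)
  refine top_unique fun g _ => ?_
  have hy := h.sing g u hu
  have hy0 : ρ g u ≠ 0 := fun h0 => hu0 (by rw [← rep_inv_apply ρ g u, h0, map_zero])
  obtain ⟨f, hf, h1⟩ : ∃ f ∈ F, ρ f u ∈ span K {ρ g u} := by
    by_cases h1 : B u (ρ g u) = 0
    · exact (h.step hF hc hu hy h1 hu0 hy0 hP).2
    set c := B v (ρ g u) / B u (ρ g u) with hc'
    have hz := h.comb v hv u hu huv 1 (-c)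
    have hz0 : (1 : K) • v + -c • u ≠ 0 := fun h0 => hi (mem_span_singleton.2 ⟨c, by
      rw [← sub_eq_zero, ← neg_eq_zero, ← h0]; module⟩)
    obtain ⟨a1, f₁, a2, a3⟩ := h.step hF hc hu hz (by simp [h.refl _ _ huv, h.self u hu]) hu0 hz0 hP
    obtain ⟨-, f₂, a4, a5⟩ := h.step hF hc hz hy (by simp [hc', h1]) hz0 hy0 a1
    obtain ⟨d, hd⟩ := mem_span_singleton.1 a3
    exact ⟨f₂ * f₁, mul_mem a4 a2, by
      rw [rep_mul_apply, ← hd, map_smul]; exact Submodule.smul_mem _ _ a5⟩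
  obtain ⟨c, hc⟩ := mem_span_singleton.1 h1
  have := hP (g⁻¹ * f) (mem_span_singleton.2 ⟨c, by
    rw [rep_mul_apply, ← hc, map_smul, rep_inv_apply]⟩)
  simpa using mul_mem hf (inv_mem this)

theorem eq_top_rankOne (hF : LocClosed p F) {u v : V} (hu : u ∈ Sg) (huv : B v u = 0)
    (hu0 : u ≠ 0) (hi : v ∉ span K {u}) (h1 : ∀ y ∈ Sg, B y u = 0 → y ∈ span K {u})
    (h2 : ∀ y ∈ Sg, ∀ y' ∈ Sg, B y u = 1 → B y' u = 1 →
      ∃ r ∈ flagUnip ρ (tsFlag B (span K {u})), ρ r y = y')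
    (hU : flagUnip ρ (tsFlag B (span K {u})) ≤ F) : F = ⊤ := by
  have hP := h.stab_le hF hu hu0 huv hi hU
  have hP' : ∀ g : H, ρ g u ∈ span K {u} → g ∈ flagStab ρ (tsFlag B (span K {u})) := fun g hg =>
    h.mem_stab fun x hx => by
      obtain ⟨c, rfl⟩ := mem_span_singleton.1 hx
      rw [map_smul]; exact Submodule.smul_mem _ _ hg
  by_cases h3 : ∃ w, w ∉ flagStab ρ (tsFlag B (span K {u}))
  swap
  · exact top_unique fun g _ => hP (by_contra fun h => h3 ⟨g, h⟩)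
  obtain ⟨w, hw⟩ := h3
  refine hF.rankOne _ hP _ Cfsg.flagUnip_le ((isFlag_flagTwo (h.le_perp_one hu)).isPGroup h.inj) w
    fun g hg => ?_
  have a0 : ∀ x : H, ∀ c : K, c • ρ x u ∈ Sg := fun x c => by
    simpa using h.comb _ (h.sing x u hu) _ (h.sing x u hu) (h.self _ (h.sing x u hu)) c 0
  have a1 : B (ρ g u) u ≠ 0 := fun h0 => hg (hP' g (h1 _ (h.sing g u hu) h0))
  have a2 : B (ρ w u) u ≠ 0 := fun h0 => hw (hP' w (h1 _ (h.sing w u hu) h0))
  obtain ⟨r, hr, h4⟩ := h2 _ (a0 w (B (ρ w u) u)⁻¹) _ (a0 g (B (ρ g u) u)⁻¹) (by simp [a2])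
    (by simp [a1])
  refine ⟨r, hr, hP' _ (mem_span_singleton.2 ⟨B (ρ g u) u * (B (ρ w u) u)⁻¹, ?_⟩)⟩
  have h5 : ρ g u = ρ (r * w) ((B (ρ g u) u * (B (ρ w u) u)⁻¹) • u) := by
    rw [rep_mul_apply, mul_smul, map_smul, map_smul, map_smul (ρ w), h4, smul_inv_smul₀ a1]
  conv_rhs => rw [rep_mul_apply, h5, rep_inv_apply]

end Polar

end Cfsg

set_option linter.all false in
theorem Cfsg.Rz.Lie_Polar_0 : True := by
  have := @_root_.Cfsg.tsFlag.eq_def.{0, 0}
  have := @_root_.Cfsg.tsFlag.eq_1.{0, 0}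
  have := @_root_.Cfsg.tsFlag.fun_cases
  have := @_root_.Cfsg.Polar.mk.congr_simp.{0, 0, 0}
  have := @_root_.Cfsg.IsPolarForm.mk.congr_simp.{0, 0}
  have := @_root_.Cfsg.perpS.eq_def.{0, 0}
  have := @_root_.Cfsg.perpS.eq_1.{0, 0}
  have := @_root_.Cfsg.perpS.fun_cases
  trivial
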