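import Cfsg.Agent.Lie.ChevMain
import Cfsg.Prelude.Def_ChevF4

/-!
# Rigidity of the Chevalley groups of type `F4` (generated certificates)
-/

set_option autoImplicit false
set_option linter.unusedSectionVars false
set_option linter.unusedVariables false
set_option linter.style.haveILetI false
set_option linter.style.longLine false
set_option maxRecDepth 100000

namespace Cfsg

open Subgroup Matrix _root_.Cfsg.Lie

namespace Chev

theorem isWt_F4_0 : IsWt chevF4
    14597661050515849688982484804719841912748351724859177783362473096047338118965497638081602083068638163385373911252124350221067 11 :=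
  isWt_of_check _ (by decide +kernel)

theorem isWt_F4_1 : IsWt chevF4
    2652001004205583207252747503336007725887402094011870183145771669503420125961515747775186012807172895921876380321792716308994 2 :=
  isWt_of_check _ (by decide +kernel)

theorem isWt_F4_2 : IsWt chevF4
    11945660046310266481729737301383834186860949630847307600216701426543917993003981890306416070261465267463497530930331633912073 9 :=
  isWt_of_check _ (by decide +kernel)

theorem isWt_F4_3 : IsWt chevF4
    2602542529954661202562312301987484559786214179378400994946570562283121202759223437870988290093147444562191198587626130187 11 :=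
  isWt_of_check _ (by decide +kernel)

theorem pRigid_F4 {K : Type*} [Field K] {p : ℕ} [Fact p.Prime] [CharP K p]
    [Finite (chevF4.group K)] [IsSimpleGroup (chevF4.group K)] : PRigid p (chevF4.group K) :=
  pRigid_group isWt_F4_0 isWt_F4_1 isWt_F4_2 isWt_F4_3 (i0 := 4) (i1 := 5) (y := 25)
    (k := 6) (z1 := 24) (z2 := 23) (i3 := 51)
  (l0 := [
  3355160, 3289369, 3157025, 3223323, 2894619, 3091993, 2827297, 3026200, 2368281, 2761505,
  2629921, 2302488, 2696987, 2170395, 2564129, 1973273, 2956578, 2105113, 2498337, 2031643,
  2425121, 1835544, 1901337, 2229022, 4641, 71707, 137753, 203544, 1184027, 1577249, 1710360,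
  1775897, 1118233, 1511457, 1052187, 1445665, 1381400, 1643547, 920097, 986395, 1315609, 657688,
  854305, 591897, 789275, 722721, 1246754, 394521, 460060, 525598, 328728])
  (l1 := [
  3349550, 2162717, 2621476, 2883624, 3145772, 2752806, 2818343, 1835544, 1966618, 2294303,
  2359840, 3015210, 3080747, 3211821, 3277358, 656672, 918823, 1049896, 1377579, 1508652,
  1705261, 1115688, 1574444, 1902126, 1181480, 2033453, 2098990, 2230318, 2427692, 2493229,
  2558766, 2690094, 2954030, 203544, 328728, 394266, 459805, 525343, 590880, 721956, 787494,
  853031, 984104, 1246250, 1311787, 1442860, 1639469, 1770542, 4641, 71707, 137753])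
  (l2 := [
  3289369, 3354906, 3157025, 3223323, 2894619, 3091738, 2827297, 2368026, 2696987, 2762779,
  2564129, 2629921, 2956578, 3022370, 2105113, 2170650, 2498337, 2031643, 2425121, 1966618,
  2294303, 1901337, 2229022, 4641, 71707, 1775897, 137753, 1841690, 1184027, 1577249, 1117978,
  1445665, 1511457, 1643547, 201759, 1709339, 986395, 1052187, 1315609, 1381146, 854305, 920097,
  591897, 657434, 789275, 722721, 1246754, 394266, 459805, 525343])
  (l3 := [
  263447, 329238, 461582, 395537, 526614, 723988, 592407, 789782, 855575, 1250326, 921620,
  987159, 660750, 1316119, 1052950, 1447703, 1118740, 1513494, 1382932, 1645079, 1572884,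
  1179918, 1770007, 1704726, 203799, 138518, 73492, 9486, 1842710, 1908247, 2039830, 2434580,
  2105623, 2500374, 2237207, 2172942, 2566167, 1975313, 2302998, 2632212, 2697751, 2763542,
  2960919, 2829332, 2371342, 3026710, 2895886, 3093009, 3158547, 3224086, 3289879])
  (by decide +kernel) (by decide +kernel) (by decide +kernel) (by decide +kernel)
  (by decide +kernel) (by decide +kernel)

end Chev

end Cfsg
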