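import Cfsg.Agent.Lie.RigE6
import Cfsg.Agent.Lie.RigF4
import Cfsg.Prelude.Def_LieTwisted

/-!
# Rigidity of the groups `²E₆`, `³D₄`, `²F₄` (generated certificates)
-/

set_option autoImplicit false
set_option linter.unusedSectionVars false
set_option linter.unusedVariables false
set_option linter.style.haveILetI false
set_option linter.style.longLine false
set_option maxRecDepth 100000

namespace Cfsg

open Subgroup Matrix _root_.Cfsg.Lie

namespace Chev

variable {K : Type*} [Field K] [Fintype K] {p : ℕ} [Fact p.Prime] [CharP K p] {q : ℕ}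

/-- Words for `²E₆`. -/
def wsE6 (i : ℕ) : WordT :=
  [([(46, (1, 0, 0))], []),
    ([(25, (1, 0, 0))], []),
    ([(39, (1, 0, 0))], []),
    ([(32, (1, 0, 0))], []),
    ([(56, (1, 0, 0)), (36, (0, 1, 0))], [(0, 1, 0), (1, 0, 0), (1, 1, 0)]),
    ([(15, (1, 0, 0)), (35, (0, 1, 0))], [(0, 1, 0), (1, 0, 0), (1, 1, 0)]),
    ([(42, (1, 0, 0)), (37, (0, 1, 0))], [(0, 1, 0), (1, 0, 0), (1, 1, 0)]),
    ([(29, (1, 0, 0)), (34, (0, 1, 0))], [(0, 1, 0), (1, 0, 0), (1, 1, 0)])].getD i ([], [])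

theorem wOK_E6 (hq : 1 < q) (hK : Fintype.card K = q ^ 2) (i : ℕ) (hi : i < 8) :
    WOK (twistedE6 K q) q (wsE6 i) := by
  have h1 : ∀ r ∈ [e6p2, e6m2, e6p4, e6m4], WOK (twistedE6 K q) q ([(r, (1, 0, 0))], []) :=
    fun r hr => ⟨exists_gen isWt_E6_0 isWt_E6_3 (.inl ⟨1, one_pow _, r, hr, by simp [inst]⟩)
      (l := [r]) rfl (by revert r; decide +kernel), fun h => (h rfl).elim, by simp⟩
  have h2 : ∀ rs ∈ [(e6p1, e6p6), (e6m1, e6m6), (e6p3, e6p5), (e6m3, e6m5)],
      WOK (twistedE6 K q) q ([(rs.1, (1, 0, 0)), (rs.2, (0, 1, 0))],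
        [(0, 1, 0), (1, 0, 0), (1, 1, 0)]) := fun rs hr => by
    have h3 : ∀ t : K, ∃ g : twistedE6 K q, subMat _ g =
        chevE6.wordMat K (inst q [(rs.1, (1, 0, 0)), (rs.2, (0, 1, 0))] t) := fun t =>
      exists_gen isWt_E6_0 isWt_E6_3 (.inr ⟨t, rs, hr, by simp [inst, ev]⟩)
        (l := [rs.1, rs.2]) rfl (by revert rs; decide +kernel)
    have h4 : 2 * q ≤ q ^ 2 := by nlinarith
    refine ⟨h3 1, fun _ => h3, ind_of_lt ?_ ?_⟩
    · simp only [List.forall_mem_cons, ev, hK]; simp; omega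
    · simp only [List.forall_mem_cons, ev]; simp; omega
  interval_cases i
  exacts [h1 _ (by simp [e6p2]), h1 _ (by simp [e6m2]), h1 _ (by simp [e6p4]),
    h1 _ (by simp [e6m4]), h2 (e6p1, e6p6) (by simp), h2 (e6m1, e6m6) (by simp),
    h2 (e6p3, e6p5) (by simp), h2 (e6m3, e6m5) (by simp)]

theorem pRigid_twistedE6 (hq : 1 < q) (hK : Fintype.card K = q ^ 2) [Finite (twistedE6 K q)]
    [IsSimpleGroup (twistedE6 K q)] : PRigid p (twistedE6 K q) := by
  refine pRigid_of_std Nat.cast_zero (wOK_E6 hq hK) isWt_E6_0 isWt_E6_1 isWt_E6_2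
    (i0 := 6) (i1 := 7) (y := 2) (k := 8) (z1 := 0) (z2 := 1)
    (l0 := [
    5065728, 4999938, 4933638, 4734212, 4867846, 4668420, 4013062, 4802054, 3947010, 4536836,
    4602628, 3814144, 4338436, 3881218, 4471044, 3616512, 3354374, 3748352, 4272644, 4405252,
    3091458, 3550720, 3288582, 3682560, 4206852, 2894342, 3025666, 3484928, 3222790, 4141060,
    3145734, 2949378, 4063748, 3408640, 2818822, 2753540, 5380, 73472, 140038, 206338, 272390,
    338180, 2298884, 1381382, 2498048, 2039298, 2630914, 2696966, 1315586, 2233092, 1972998,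
    2432256, 2565122, 1249280, 1773572, 2167300, 1907206, 2366464, 1183488, 1707780, 1052422,
    2101508, 1841414, 986370, 1576196, 1117696, 1641988, 854534, 920578, 1510404, 657668, 788742,
    1444612, 17500166, 591878, 526082, 460288])
    (l1 := [
    5065728, 3408640, 3484928, 3550720, 3616512, 3682560, 3748352, 3814144, 4407296, 4473088,
    4538880, 1117696, 1183488, 1249280, 2103552, 2169344, 2235136, 2366464, 2432256, 2498048,
    73472, 460288, 3881218, 3947010, 21379844, 4668164, 4013062, 4734212, 4802054, 21645062,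
    4933382, 4999938, 2949378, 1315586, 2298884, 1381382, 2565122, 2630914, 206338, 2696966,
    20000006, 87174406, 3026182, 2829827, 3091972, 2895619, 3354374, 3158275, 4206852, 21049860,
    4338180, 4145155, 526082, 17500166, 84674566, 591878, 657668, 854534, 1444612, 920578,
    18287620, 1575940, 986370, 18419204, 1707524, 1052422, 1773572, 1841414, 18684422, 1972742,
    2039298, 140038, 272390, 2763783, 4079367, 5380, 338180])
    (l2 := [
    4999938, 4933638, 4734212, 4867846, 4668420, 4013062, 4802054, 4338436, 3947010, 4536836,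
    4602628, 3354374, 4272644, 3815174, 3881218, 4471044, 3091458, 3288582, 4206852, 3618308,
    3749382, 4405252, 2894342, 3025666, 3222790, 4141060, 20460806, 3552518, 3145734, 2949378,
    4063748, 2818822, 2753540, 3486722, 5380, 2039298, 140038, 206338, 272390, 338180, 2298884,
    1381382, 1972998, 2499078, 2630914, 2696966, 1773572, 1315586, 2233092, 1907206, 2433286,
    2565122, 1707780, 1052422, 2167300, 1249798, 1841414, 2367494, 986370, 1576196, 1641988,
    18878724, 1184004, 854534, 920578, 1510404, 657668, 788742, 1444612, 17500166, 591878, 526082,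
    5065728, 3408640, 73472, 1117696])
    (by decide +kernel) (by decide +kernel) (by decide +kernel) (by decide +kernel)
    fun F hF b0 b1 b2 => eq_top_of_closure ?_
  rintro g ⟨w, ⟨t, -, r, hr, rfl⟩ | ⟨t, rs, hr, rfl⟩, hg⟩
  · exact mem_of_word isWt_E6_0 isWt_E6_1 isWt_E6_2 b0 b1 b2 hg (l := [r]) rfl
      (by clear hg; revert r; decide +kernel)
  · exact mem_of_word isWt_E6_0 isWt_E6_1 isWt_E6_2 b0 b1 b2 hg (l := [rs.1, rs.2]) rfl
      (by clear hg; revert rs; decide +kernel)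

theorem isWt_D4_0 : IsWt chevD4
    1056838207832929725420445643931734247570080321372246267059629262085 5 :=
  isWt_of_check _ (by decide +kernel)

theorem isWt_D4_1 : IsWt chevD4
    422488134811410109193284587905762989739468532061981839647886672386 2 :=
  isWt_of_check _ (by decide +kernel)

theorem isWt_D4_2 : IsWt chevD4
    634350073021519616227161056025971257830611789310264427411742589699 3 :=
  isWt_of_check _ (by decide +kernel)

theorem isWt_D4_3 : IsWt chevD4
    414602643565952801790241833741465121572401080325202787571139845 5 :=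
  isWt_of_check _ (by decide +kernel)

/-- Words for `³D₄`. -/
def wsD4 (i : ℕ) : WordT :=
  [([(14, (1, 0, 0))], []),
    ([(9, (1, 0, 0))], []),
    ([(18, (1, 0, 0)), (13, (0, 1, 0)), (12, (0, 0, 1))], [(0, 0, 1), (0, 1, 0), (0, 1, 1), (1, 0, 0), (1, 0, 1), (1, 1, 0), (1, 1, 1)]),
    ([(5, (1, 0, 0)), (10, (0, 1, 0)), (11, (0, 0, 1))], [(0, 0, 1), (0, 1, 0), (0, 1, 1), (1, 0, 0), (1, 0, 1), (1, 1, 0), (1, 1, 1)])].getD i ([], [])

theorem wOK_D4 (hq : 1 < q) (hK : Fintype.card K = q ^ 3) (i : ℕ) (hi : i < 4) :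
    WOK (twistedD4 K q) q (wsD4 i) := by
  have h1 : ∀ r ∈ [d4p2, d4m2], WOK (twistedD4 K q) q ([(r, (1, 0, 0))], []) :=
    fun r hr => ⟨exists_gen isWt_D4_0 isWt_D4_3 (.inl ⟨1, one_pow _, r, hr, by simp [inst]⟩)
      (l := [r]) rfl (by revert r; decide +kernel), fun h => (h rfl).elim, by simp⟩
  have h2 : ∀ rs ∈ [(d4p1, d4p3, d4p4), (d4m1, d4m3, d4m4)],
      WOK (twistedD4 K q) q ([(rs.1, (1, 0, 0)), (rs.2.1, (0, 1, 0)), (rs.2.2, (0, 0, 1))],
        [(0, 0, 1), (0, 1, 0), (0, 1, 1), (1, 0, 0), (1, 0, 1), (1, 1, 0), (1, 1, 1)]) := fun rs hr => by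
    have h3 : ∀ t : K, ∃ g : twistedD4 K q, subMat _ g = chevD4.wordMat K
        (inst q [(rs.1, (1, 0, 0)), (rs.2.1, (0, 1, 0)), (rs.2.2, (0, 0, 1))] t) := fun t =>
      exists_gen isWt_D4_0 isWt_D4_3 (.inr ⟨t, rs, hr, by simp [inst, ev]⟩)
        (l := [rs.1, rs.2.1, rs.2.2]) rfl (by revert rs; decide +kernel)
    have h4 : 2 * q ≤ q ^ 2 := by nlinarith
    have h5 : 2 * q ^ 2 ≤ q ^ 3 := by nlinarith
    refine ⟨h3 1, fun _ => h3, ind_of_lt ?_ ?_⟩
    · simp only [List.forall_mem_cons, ev, hK]; simp; omega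
    · simp only [List.forall_mem_cons, ev]; simp; omega
  interval_cases i
  exacts [h1 _ (by simp [d4p2]), h1 _ (by simp [d4m2]), h2 (d4p1, d4p3, d4p4) (by simp),
    h2 (d4m1, d4m3, d4m4) (by simp)]

theorem pRigid_twistedD4 (hq : 1 < q) (hK : Fintype.card K = q ^ 3) [Finite (twistedD4 K q)]
    [IsSimpleGroup (twistedD4 K q)] : PRigid p (twistedD4 K q) := by
  refine pRigid_of_std Nat.cast_zero (wOK_D4 hq hK) isWt_D4_0 isWt_D4_1 isWt_D4_2
    (i0 := 4) (i1 := 5) (y := 2) (k := 6) (z1 := 0) (z2 := 1)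
    (l0 := [
    1776128, 1709314, 18354946, 1381122, 1643522, 1249280, 1315072, 1511938, 1179648, 18219266,
    269484290, 1114370, 2306, 68864, 134658, 200450, 591872, 854018, 920320, 986112, 17499650,
    525826, 788226, 17433858, 268829954, 460034, 328704])
    (l1 := [
    1776128, 1179648, 1249280, 1315072, 1512960, 591872, 920320, 986112, 68864, 328704, 286790146,
    85529090, 354030082, 1380866, 18219266, 269484290, 1114370, 2306, 134658, 200450, 285934850,
    84673794, 67568898, 17433858, 268829954, 353174786, 525570])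
    (l2 := [
    1709314, 18354946, 1381122, 1643522, 18219266, 269484290, 1114370, 18289154, 269685250,
    1315330, 854018, 2306, 134658, 200450, 17499650, 525826, 788226, 17433858, 268829954, 460034,
    1776128, 1179648, 68864, 591872, 920320, 986112])
    (by decide +kernel) (by decide +kernel) (by decide +kernel) (by decide +kernel)
    fun F hF b0 b1 b2 => eq_top_of_closure ?_
  rintro g ⟨w, ⟨t, -, r, hr, rfl⟩ | ⟨t, rs, hr, rfl⟩, hg⟩
  · exact mem_of_word isWt_D4_0 isWt_D4_1 isWt_D4_2 b0 b1 b2 hg (l := [r]) rfl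
      (by clear hg; revert r; decide +kernel)
  · exact mem_of_word isWt_D4_0 isWt_D4_1 isWt_D4_2 b0 b1 b2 hg (l := [rs.1, rs.2.1, rs.2.2]) rfl
      (by clear hg; revert rs; decide +kernel)

theorem isWt_F4_4 : IsWt chevF4
    5306594384759365807167330611774142301446190525561601794047810735884147672835927772401354404521140368835432003358345916580868 4 :=
  isWt_of_check _ (by decide +kernel)

theorem isWt_F4_5 : IsWt chevF4
    9291066665756483881815154192945699611302161199297575989314662360163190446129569865680247678547497794549941907893778433640199 7 :=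
  isWt_of_check _ (by decide +kernel)

/-- Words for `²F₄`. -/
def wsF4 (i : ℕ) : WordT :=
  [([(33, (0, 1, 0)), (24, (1, 0, 0))], [(0, 1, 0), (0, 2, 0), (0, 3, 0), (1, 0, 0), (1, 1, 0), (1, 2, 0), (1, 3, 0)]),
    ([(14, (0, 1, 0)), (23, (1, 0, 0))], [(0, 1, 0), (0, 2, 0), (0, 3, 0), (1, 0, 0), (1, 1, 0), (1, 2, 0), (1, 3, 0)]),
    ([(27, (0, 1, 0)), (25, (1, 0, 0)), (28, (1, 1, 0))], [(0, 1, 0), (0, 2, 0), (0, 3, 0), (1, 0, 0), (1, 1, 0), (1, 2, 0), (1, 3, 0)]),
    ([(20, (0, 1, 0)), (22, (1, 0, 0)), (19, (1, 1, 0))], [(0, 1, 0), (0, 2, 0), (0, 3, 0), (1, 0, 0), (1, 1, 0), (1, 2, 0), (1, 3, 0)]),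
    ([(28, (1, 0, 0)), (30, (0, 2, 0))], [(0, 2, 0), (1, 0, 0), (1, 2, 0), (2, 0, 0), (2, 2, 0), (3, 0, 0), (3, 2, 0)]),
    ([(19, (1, 0, 0)), (17, (0, 2, 0))], [(0, 2, 0), (1, 0, 0), (1, 2, 0), (2, 0, 0), (2, 2, 0), (3, 0, 0), (3, 2, 0)])].getD i ([], [])

theorem wOK_F4 (hq : 1 < q) (hq3 : q ≠ 3) (hK : Fintype.card K = 2 * q ^ 2) (i : ℕ) (hi : i < 6) :
    WOK (twistedF4 K q) q (wsF4 i) := by
  have h4 : 3 * q + 1 < 2 * q ^ 2 := by nlinarith
  have i1 := ind_of_lt (K := K) (q := q) (al := [(0, 1, 0), (0, 2, 0), (0, 3, 0), (1, 0, 0), (1, 1, 0), (1, 2, 0), (1, 3, 0)])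
    (by simp only [List.forall_mem_cons, ev, hK]; simp; omega)
    (by simp only [List.forall_mem_cons, ev]; simp; omega)
  have i2 := ind_of_lt (K := K) (q := q) (al := [(0, 2, 0), (1, 0, 0), (1, 2, 0), (2, 0, 0), (2, 2, 0), (3, 0, 0), (3, 2, 0)])
    (by simp only [List.forall_mem_cons, ev, hK]; simp; omega)
    (by simp only [List.forall_mem_cons, ev]; simp; omega)
  have hz : ∀ r, chevF4.x K r 0 = 1 := fun r => x_zero _ r fun j y hy => (isWt_F4_0 r j y hy).1
  have hq0 : q ≠ 0 := by omega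
  have mk : ∀ {wd : WordT}, (∀ t : K, ∃ g : twistedF4 K q, subMat _ g =
      chevF4.wordMat K (inst q wd.1 t)) →
      (∀ e ∈ wd.2, ∀ e' ∈ wd.2, e ≠ e' → ∃ t : K, t ^ ev q e ≠ t ^ ev q e') →
      WOK (twistedF4 K q) q wd := fun h h' => ⟨h 1, fun _ => h, h'⟩
  have g1 : ∀ t u : K, ∃ g : twistedF4 K q, subMat _ g =
      chevF4.wordMat K (b2ClassWord q f4a f4b f4ab f4aab t u) := fun t u =>
    exists_gen isWt_F4_0 isWt_F4_3 (.inr ⟨t, u, .inl rfl⟩) (l := [f4a, f4b, f4ab, f4aab]) rfl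
      (by decide +kernel)
  have g2 : ∀ t u : K, ∃ g : twistedF4 K q, subMat _ g =
      chevF4.wordMat K (b2ClassWord q f4ma f4mb f4mab f4maab t u) := fun t u =>
    exists_gen isWt_F4_0 isWt_F4_3 (.inr ⟨t, u, .inr rfl⟩) (l := [f4ma, f4mb, f4mab, f4maab]) rfl
      (by decide +kernel)
  interval_cases i
  · exact mk (fun t => exists_gen isWt_F4_0 isWt_F4_3 (.inl ⟨t, .inl (by
      simp [inst, ev, wsF4, f4PairWord, f4p1, f4p4])⟩) (l := [33, 24]) rfl (by decide +kernel)) i1
  · exact mk (fun t => exists_gen isWt_F4_0 isWt_F4_3 (.inl ⟨t, .inr (by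
      simp [inst, ev, wsF4, f4PairWord, f4m1, f4m4])⟩) (l := [14, 23]) rfl (by decide +kernel)) i1
  · exact mk (fun t => by
      simpa [inst, ev, wsF4, b2ClassWord, f4a, f4b, f4ab, ChevalleyDatum.wordMat, hz, hq0,
        add_comm] using g1 t 0) i1
  · exact mk (fun t => by
      simpa [inst, ev, wsF4, b2ClassWord, f4ma, f4mb, f4mab, ChevalleyDatum.wordMat, hz, hq0,
        add_comm] using g2 t 0) i1
  · exact mk (fun t => by
      simpa [inst, ev, wsF4, b2ClassWord, f4ab, f4aab, ChevalleyDatum.wordMat, hz, hq0]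
        using g1 0 t) i2
  · exact mk (fun t => by
      simpa [inst, ev, wsF4, b2ClassWord, f4mab, f4maab, ChevalleyDatum.wordMat, hz, hq0]
        using g2 0 t) i2

theorem pRigid_twistedF4 [CharP K 2] (hq : 1 < q) (hq3 : q ≠ 3)
    (hK : Fintype.card K = 2 * q ^ 2) [Finite (twistedF4 K q)]
    [IsSimpleGroup (twistedF4 K q)] : PRigid 2 (twistedF4 K q) := by
  refine pRigid_of_std (CharP.cast_eq_zero K 2) (wOK_F4 hq hq3 hK) isWt_F4_0 isWt_F4_4 isWt_F4_5
    (i0 := 4) (i1 := 5) (y := 2) (k := 6) (z1 := 0) (z2 := 1)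
    (l0 := [
    3355136, 3289346, 3156992, 3223298, 2894594, 3091970, 2827264, 3026176, 2761472, 2368258,
    2629888, 137175552, 19079680, 2695680, 2170370, 2564096, 1973250, 136453378, 2104578, 2498304,
    2031618, 2425088, 1835520, 1901314, 4608, 71682, 137730, 203520, 1577216, 1184002, 1710336,
    1775874, 1511424, 1118210, 1052162, 1445632, 1381376, 1643522, 920064, 986370, 1315586,
    17434880, 854272, 135464960, 788480, 591874, 722688, 134743554, 460290, 394498, 328704])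
    (l1 := [
    3355136, 3156992, 3026176, 2629888, 2761472, 137307136, 2827264, 2425088, 1835520, 1973504,
    2498304, 18948096, 2564096, 137175552, 19079680, 2695680, 1511424, 1577216, 4608, 1381376,
    1710336, 203520, 920064, 17829632, 1445632, 722688, 135464960, 788480, 135530752, 17434880,
    854272, 328704, 137440772, 3288580, 2893826, 2366466, 85983234, 2031618, 18678530, 2228994,
    70914, 136452, 85003778, 1183234, 135860996, 1774340, 985858, 17237252, 134743300, 591108,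
    395267])
    (l2 := [
    3289346, 2894594, 137441026, 3157762, 2368258, 2828802, 3091970, 2696962, 2762754, 136453378,
    2104578, 136519170, 2170370, 2565634, 2031618, 1901314, 1973250, 2499842, 1184002, 71682,
    1775874, 137730, 1118210, 1578754, 986370, 1052162, 135861250, 1446914, 135927042, 1512706,
    591874, 855042, 1315586, 789250, 134743554, 460290, 394498, 3355136, 137175552, 3023360,
    2629632, 2425088, 1835520, 4608, 203520, 17434880, 84805888, 1378560, 1247232, 722688])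
    (by decide +kernel) (by decide +kernel) (by decide +kernel) (by decide +kernel)
    fun F hF b0 b1 b2 => eq_top_of_closure ?_
  rintro g ⟨w, ⟨t, rfl | rfl⟩ | ⟨t, u, rfl | rfl⟩, hg⟩
  · exact mem_of_word isWt_F4_0 isWt_F4_4 isWt_F4_5 b0 b1 b2 hg (l := [f4p1, f4p4]) rfl
      (by decide +kernel)
  · exact mem_of_word isWt_F4_0 isWt_F4_4 isWt_F4_5 b0 b1 b2 hg (l := [f4m1, f4m4]) rfl
      (by decide +kernel)
  · exact mem_of_word isWt_F4_0 isWt_F4_4 isWt_F4_5 b0 b1 b2 hg
      (l := [f4a, f4b, f4ab, f4aab]) rfl (by decide +kernel)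
  · exact mem_of_word isWt_F4_0 isWt_F4_4 isWt_F4_5 b0 b1 b2 hg
      (l := [f4ma, f4mb, f4mab, f4maab]) rfl (by decide +kernel)

end Chev

end Cfsg

set_option linter.all false in
theorem Cfsg.Rz.Lie_RigTw_0 : True := by
  have := @_root_.Cfsg.Chev.wsF4.eq_def
  have := @_root_.Cfsg.Chev.wsF4.fun_cases
  have := @_root_.Cfsg.Chev.wsD4.eq_def
  have := @_root_.Cfsg.Chev.wsD4.eq_1
  have := @_root_.Cfsg.Chev.wsD4.fun_cases
  have := @_root_.Cfsg.Chev.wsE6.eq_def
  have := @_root_.Cfsg.Chev.wsE6.eq_1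
  have := @_root_.Cfsg.Chev.wsE6.fun_cases
  trivial
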