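import Cfsg.Agent.Grp.AxB
import Mathlib.GroupTheory.SemidirectProduct

/-!
# Coprime automorphisms centralizing a Sylow subgroup: the abstract part

`fixAut a` is the fixed point subgroup of an automorphism.  If `a` has order prime to `p` and
fixes a Sylow `p`-subgroup, then `fixAut a` (and its preimage in a central extension) is
`LocClosed`: it contains the normalizer of every `p`-subgroup containing a fixed `p`-subgroup
whose centralizer is a `p`-group modulo the centre.
-/

set_option autoImplicit false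
set_option linter.unusedSectionVars false
set_option linter.unusedVariables false
set_option linter.style.haveILetI false

namespace Cfsg

open Subgroup

universe u v

variable {G : Type u} [Group G] {H : Type v} [Group H] {p : ℕ}

/-- The fixed points of an automorphism. -/
def fixAut (a : MulAut G) : Subgroup G := (a : G →* G).eqLocus (MonoidHom.id G)

theorem mem_fixAut {a : MulAut G} {x : G} : x ∈ fixAut a ↔ a x = x := Iff.rfl

theorem fixAut_eq_top {a : MulAut G} : fixAut a = ⊤ ↔ a = 1 :=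
  ⟨fun h => MulEquiv.ext fun x => mem_fixAut.1 (h ▸ mem_top x), fun h => by
    subst h; exact top_unique fun x _ => rfl⟩

theorem pow_apply_of_mem_fixAut {a : MulAut G} {x : G} (hx : x ∈ fixAut a) (n : ℕ) :
    (a ^ n) x = x := by
  induction n with
  | zero => rfl
  | succ n ih => rw [pow_succ, MulAut.mul_apply, mem_fixAut.1 hx, ih]

variable [Finite G] [Finite H] [hp : Fact p.Prime]

/-- The `A × B` lemma for an automorphism. -/
theorem le_fixAut_of_AxB {a : MulAut G} (ha : ¬ p ∣ orderOf a) {Q Y : Subgroup G}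
    (hQ : IsPGroup p Q) (hY : IsPGroup p Y) (hYQ : Y ≤ normalizer (Q : Set G))
    (haQ : ∀ x ∈ Q, a x ∈ Q) (haY : Y ≤ fixAut a)
    (h : Q ⊓ centralizer (Y : Set G) ≤ fixAut a) : Q ≤ fixAut a := by
  haveI : Finite (MulAut G) := Finite.of_injective (fun f : MulAut G => (f : G → G))
    DFunLike.coe_injective
  let Γ := G ⋊[MonoidHom.id (MulAut G)] MulAut G
  haveI : Finite Γ := Finite.of_equiv _ SemidirectProduct.equivProd.symm
  let i : G →* Γ := SemidirectProduct.inl
  have hi : Function.Injective i := SemidirectProduct.inl_injective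
  let α : Γ := SemidirectProduct.inr a
  have hα : ∀ x, α * i x * α⁻¹ = i (a x) := fun x => by
    have := SemidirectProduct.inl_aut (φ := MonoidHom.id (MulAut G)) a x
    simpa [α, i] using this.symm
  have key : ∀ x, i x ∈ centralizer ((zpowers α : Subgroup Γ) : Set Γ) ↔ x ∈ fixAut a := fun x => by
    rw [centralizer_zpowers, mem_centralizer_singleton_iff, mem_fixAut, ← hi.eq_iff, ← hα,
      mul_inv_eq_iff_eq_mul, eq_comm]
  have := le_centralizer_of_AxB (p := p) (Q := Q.map i) (R := Y.map i) (A := zpowers α)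
    (hQ.map i) (hY.map i) ((map_mono hYQ).trans (Q.le_normalizer_map i)) (by
      rw [Nat.card_zpowers, orderOf_injective _ SemidirectProduct.inr_injective]; exact ha)
    (zpowers_le.2 (mem_normalizer_of_forall_conj_mem (by
      rintro _ ⟨x, hx, rfl⟩; rw [hα]; exact ⟨_, haQ x hx, rfl⟩)))
    (le_centralizer_iff.1 (by rintro _ ⟨x, hx, rfl⟩; exact (key x).2 (haY hx)))
    (by
      rintro _ ⟨⟨x, hx, rfl⟩, hc⟩
      refine (key x).2 (h ⟨hx, fun y hy => hi ?_⟩)
      rw [map_mul, map_mul]; exact hc _ ⟨y, hy, rfl⟩)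
  exact fun x hx => (key x).1 (this ⟨x, hx, rfl⟩)

theorem exists_sylow_between {F R : Subgroup G} (hF : ¬ p ∣ F.index) (hR : IsPGroup p R)
    (hRF : R ≤ F) : ∃ U : Sylow p G, R ≤ U ∧ (U : Subgroup G) ≤ F := by
  obtain ⟨S, hS⟩ := (hR.comap_subtype (K := F)).exists_le_sylow
  refine ⟨(S.isPGroup'.map F.subtype).toSylow ?_, ?_, map_subtype_le _⟩
  · rw [index_map_subtype]
    exact fun h => (hp.out.dvd_mul.1 h).elim S.not_dvd_index hF
  · intro x hx
    exact ⟨⟨x, hRF hx⟩, hS hx, rfl⟩

theorem centralizer_le_fixAut {a : MulAut G} (ha : ¬ p ∣ orderOf a)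
    (hF : ¬ p ∣ (fixAut a).index) {R : Subgroup G} (hR : IsPGroup p R) (hRF : R ≤ fixAut a)
    (hC : IsPGroup p (centralizer (R : Set G))) : centralizer (R : Set G) ≤ fixAut a := by
  obtain ⟨U, hRU, hUF⟩ := exists_sylow_between hF hR hRF
  induction hn : Nat.card G - Nat.card R using Nat.strong_induction_on generalizing R with
  | _ n ih =>
  rcases hRU.eq_or_lt with e | hlt
  · have h1 : IsPGroup p (R ⊔ centralizer (R : Set G) : Subgroup G) :=
      IsPGroup.to_sup_of_normal_left' hR hC (centralizer_le_normalizer _)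
    have h2 := U.is_maximal' h1 (e ▸ le_sup_left)
    exact le_sup_right.trans (h2.le.trans hUF)
  · have h1 := lt_inf_normalizer_of_isPGroup U.isPGroup' hlt
    set Y := (U : Subgroup G) ⊓ normalizer (R : Set G)
    have hY : IsPGroup p Y := U.isPGroup'.to_le inf_le_left
    have hYC : centralizer (Y : Set G) ≤ centralizer (R : Set G) := centralizer_le h1.le
    have h2 := ih _ (by
      have := card_lt_of_lt h1
      have := card_le_of_le (le_top (a := Y))
      rw [card_top] at this
      omega) hY (inf_le_left.trans hUF) (hC.to_le hYC) inf_le_left rfl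
    refine le_fixAut_of_AxB ha hC hY
      (inf_le_right.trans (normalizer_le_normalizer_centralizer R)) (fun x hx y hy => ?_)
      (inf_le_left.trans hUF) (inf_le_right.trans h2)
    rw [← mem_fixAut.1 (hRF hy), ← map_mul, ← map_mul, hx y hy]

theorem mem_fixAut_of_isPElt {a : MulAut G} (ha : ¬ p ∣ orderOf a) {n : G}
    (h1 : n⁻¹ * a n ∈ fixAut a) {k : ℕ} (h2 : (n⁻¹ * a n) ^ p ^ k = 1) : n ∈ fixAut a := by
  set c := n⁻¹ * a n with hc
  have h3 : ∀ m : ℕ, (a ^ m) n = n * c ^ m := fun m => by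
    induction m with
    | zero => simp
    | succ m ih =>
      rw [pow_succ', MulAut.mul_apply, ih, map_mul, mem_fixAut.1 (pow_mem h1 m), pow_succ',
        ← mul_assoc, hc, mul_inv_cancel_left]
  have h4 : c ^ orderOf a = 1 := by simpa using (h3 (orderOf a)).symm
  have h5 : c = 1 := by
    rw [← orderOf_eq_one_iff]
    exact Nat.eq_one_of_dvd_coprimes ((hp.out.coprime_iff_not_dvd.2 ha).pow_left k)
      (orderOf_dvd_of_pow_eq_one h2) (orderOf_dvd_of_pow_eq_one h4)
  exact (inv_mul_eq_one.1 h5).symm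

theorem normalizer_le_fixAut {a : MulAut G} (ha : ¬ p ∣ orderOf a)
    (hF : ¬ p ∣ (fixAut a).index) {R : Subgroup G} (hRF : R ≤ fixAut a)
    (hC : IsPGroup p (centralizer (R : Set G))) {Y : Subgroup G} (hY : IsPGroup p Y)
    (hRY : R ≤ Y) : normalizer (Y : Set G) ≤ fixAut a := by
  have hCF := centralizer_le_fixAut ha hF (hY.to_le hRY) hRF hC
  induction hn : Nat.card G - Nat.card R using Nat.strong_induction_on generalizing R with
  | _ n ih =>
  have hN : normalizer (R : Set G) ≤ fixAut a := fun n hn => by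
    have h1 : n⁻¹ * a n ∈ centralizer (R : Set G) := fun r hr => by
      have h2 := mem_fixAut.1 (hRF (conj_mem_of_mem_normalizer hn hr))
      rw [map_mul, map_mul, map_inv, mem_fixAut.1 (hRF hr)] at h2
      calc r * (n⁻¹ * a n) = n⁻¹ * (n * r * n⁻¹) * a n := by group
        _ = n⁻¹ * a n * r := by rw [← h2]; group
    obtain ⟨k, hk⟩ := hC ⟨_, h1⟩
    exact mem_fixAut_of_isPElt ha (hCF h1) (k := k) (congrArg Subtype.val hk)
  rcases hRY.eq_or_lt with e | hlt
  · exact e ▸ hN
  · have h1 := lt_inf_normalizer_of_isPGroup hY hlt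
    have hYC : centralizer ((Y ⊓ normalizer (R : Set G) : Subgroup G) : Set G) ≤
      centralizer (R : Set G) := centralizer_le h1.le
    exact ih _ (by
      have := card_lt_of_lt h1
      have := card_le_of_le (le_top (a := Y ⊓ normalizer (R : Set G)))
      rw [card_top] at this
      omega) (inf_le_right.trans hN) (hC.to_le hYC) inf_le_left (hYC.trans hCF) rfl

theorem fixAut_eq_top_of_rankOne [IsSimpleGroup G] {a : MulAut G} (ha : ¬ p ∣ orderOf a)
    {B R : Subgroup G} (hB : B ≤ fixAut a) (hRB : R ≤ B) (hR : IsPGroup p R) {w : G}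
    (h : ∀ g ∉ B, ∃ r ∈ R, (r * w)⁻¹ * g ∈ B) : fixAut a = ⊤ := by
  by_cases hBt : B = ⊤
  · exact top_unique (hBt ▸ hB)
  have hw : w ∉ B := fun hw => hBt (top_unique fun g _ => by
    by_contra hg
    obtain ⟨r, hr, h1⟩ := h g hg
    exact hg (by simpa [mul_assoc] using mul_mem (mul_mem (hRB hr) hw) h1))
  have haw : a w ∉ B := fun h1 => hw (by rwa [a.injective (mem_fixAut.1 (hB h1))] at h1)
  obtain ⟨r, hr, h1⟩ := h _ haw
  have h2 : ∀ m : ℕ, (r ^ m * w)⁻¹ * (a ^ m) w ∈ B := fun m => by
    induction m with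
    | zero => simp
    | succ m ih =>
      have h3 := mem_fixAut.1 (hB ih)
      rw [map_mul, map_inv, map_mul, mem_fixAut.1 (hB (hRB (pow_mem hr m)))] at h3
      have : (r ^ (m + 1) * w)⁻¹ * (a ^ (m + 1)) w =
          ((r * w)⁻¹ * a w) * ((r ^ m * w)⁻¹ * (a ^ m) w) := by
        rw [← h3, pow_succ' a, MulAut.mul_apply]; group
      rw [this]; exact mul_mem h1 ih
  have h3 : w⁻¹ * r * w ∈ B := by
    have h4 : (w⁻¹ * r * w) ^ orderOf a ∈ B := by
      have := inv_mem (h2 (orderOf a))
      rw [pow_orderOf_eq_one] at this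
      convert this using 1
      rw [show w⁻¹ * r * w = w⁻¹ * r * w⁻¹⁻¹ by group, conj_pow]; simp [mul_assoc]
    obtain ⟨k, hk⟩ := hR ⟨r, hr⟩
    have h5 : (w⁻¹ * r * w) ^ p ^ k = 1 := by
      have : r ^ p ^ k = 1 := congrArg Subtype.val hk
      rw [show w⁻¹ * r * w = w⁻¹ * r * w⁻¹⁻¹ by group, conj_pow, this]; group
    obtain ⟨j, hj⟩ := exists_pow_eq_self_of_coprime (x := w⁻¹ * r * w) (n := orderOf a)
      (((hp.out.coprime_iff_not_dvd.2 ha).pow_left k).coprime_dvd_left
        (orderOf_dvd_of_pow_eq_one h5)).symm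
    exact hj ▸ pow_mem h4 j
  have h4 : w⁻¹ * a w ∈ B := by simpa [mul_assoc] using mul_mem h3 h1
  have h5 : ∀ g, g⁻¹ * a g ∈ B := fun g => by
    by_cases hg : g ∈ B
    · rw [mem_fixAut.1 (hB hg), inv_mul_cancel]; exact B.one_mem
    obtain ⟨s, hs, h6⟩ := h g hg
    have h7 := mem_fixAut.1 (hB h6)
    rw [map_mul, map_inv, map_mul, mem_fixAut.1 (hB (hRB hs))] at h7
    have : g⁻¹ * a g = ((s * w)⁻¹ * g)⁻¹ * (w⁻¹ * a w) * ((s * w)⁻¹ * g) := by
      conv_rhs => enter [2]; rw [← h7]
      group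
    rw [this]; exact mul_mem (mul_mem (inv_mem h6) h4) h6
  have h6 : B.normalCore = ⊥ := (B.normalCore_normal.eq_bot_or_eq_top).resolve_right fun h7 =>
    hBt (top_unique (h7 ▸ B.normalCore_le))
  refine top_unique fun x _ => ?_
  have : x⁻¹ * a x ∈ B.normalCore := fun g => by
    have := mul_mem (h5 (x * g⁻¹)) (inv_mem (h5 g⁻¹))
    rw [map_mul] at this
    convert this using 1; group
  rw [h6, mem_bot] at this
  exact (inv_mul_eq_one.1 this).symm

/-- The closure properties of the preimage of the fixed point subgroup. -/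
structure LocClosed (p : ℕ) (F : Subgroup H) : Prop where
  index : ¬ p ∣ F.index
  closed : ∀ R ≤ F, (∀ g ∈ centralizer (R : Set H), ∃ k, g ^ p ^ k ∈ center H) →
    ∀ Y : Subgroup H, IsPGroup p Y → R ≤ Y → normalizer (Y : Set H) ≤ F
  rankOne : ∀ B ≤ F, ∀ R ≤ B, IsPGroup p R → ∀ w : H,
    (∀ g ∉ B, ∃ r ∈ R, (r * w)⁻¹ * g ∈ B) → F = ⊤

theorem locClosed_comap [IsSimpleGroup G] {a : MulAut G} (ha : ¬ p ∣ orderOf a)
    (hF : ¬ p ∣ (fixAut a).index) {π : H →* G} (hπ : Function.Surjective π)
    (hker : π.ker = center H) : LocClosed p ((fixAut a).comap π) where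
  index := by rwa [index_comap_of_surjective _ hπ]
  closed R hR hC Y hY hRY := by
    have hRp := hY.to_le hRY
    refine fun n hn => normalizer_le_fixAut ha hF (R := R.map π) (map_le_iff_le_comap.2 hR) ?_
      (hY.map π) (map_mono hRY) (Y.le_normalizer_map π ⟨n, hn, rfl⟩)
    rintro ⟨x, hx⟩
    obtain ⟨g, rfl⟩ := hπ x
    obtain ⟨k, hk⟩ := hRp.exists_card_eq
    have h1 : g ^ p ^ k ∈ centralizer (R : Set H) := fun r hr => by
      have hz : g * r * g⁻¹ * r⁻¹ ∈ center H := by
        rw [← hker, MonoidHom.mem_ker, map_mul, map_mul, map_mul, ← hx _ ⟨r, hr, rfl⟩]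
        simp
      set z := g * r * g⁻¹ * r⁻¹ with hzd
      have h2 : r ^ p ^ k = 1 := congrArg Subtype.val (hk ▸ pow_card_eq_one' (x := (⟨r, hr⟩ : R)))
      have h3 : g * r * g⁻¹ = z * r := by rw [hzd]; group
      have hc : ∀ y, Commute z y := fun y => (mem_center_iff.1 hz y).symm
      have h4 : z ^ p ^ k = 1 := by
        have := congrArg (· ^ p ^ k) h3
        simp only [conj_pow, (hc r).mul_pow, h2] at this
        simpa using this.symm
      have h5 : ∀ m : ℕ, g ^ m * r = z ^ m * r * g ^ m := fun m => by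
        induction m with
        | zero => simp
        | succ m ih =>
          rw [pow_succ' g, mul_assoc, ih, pow_succ z, ← mul_assoc, ← mul_assoc,
            ← ((hc g).pow_left m).eq, mul_assoc (z ^ m), mul_inv_eq_iff_eq_mul.1 h3]
          simp only [mul_assoc]
      rw [h5, h4, one_mul]
    obtain ⟨j, hj⟩ := hC _ h1
    rw [← hker, MonoidHom.mem_ker, map_pow, map_pow, ← pow_mul, ← pow_add] at hj
    exact ⟨k + j, Subtype.ext hj⟩
  rankOne B hB R hR hRp w h := by
    rw [fixAut_eq_top_of_rankOne ha (map_le_iff_le_comap.2 hB) (map_mono hR) (hRp.map π)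
      (w := π w) ?_, comap_top]
    intro x hx
    obtain ⟨g, rfl⟩ := hπ x
    obtain ⟨r, hr, h1⟩ := h g fun hg => hx ⟨g, hg, rfl⟩
    exact ⟨π r, ⟨r, hr, rfl⟩, _, h1, by simp⟩

/-- No nontrivial `p'`-automorphism centralizes a Sylow `p`-subgroup. -/
def PRigid (p : ℕ) (G : Type u) [Group G] : Prop :=
  ∀ a : MulAut G, ¬ p ∣ orderOf a → ¬ p ∣ (fixAut a).index → a = 1

theorem PRigid.of_equiv (h : PRigid p G) (e : H ≃* G) : PRigid p H := by
  intro a ha hF
  have h1 : fixAut a = (fixAut (MulAut.congr e a)).comap e := by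
    ext x
    simp [mem_fixAut]
  have := h (MulAut.congr e a) (by rwa [MulEquiv.orderOf_eq]) (by
    rwa [h1, index_comap_of_surjective _ e.surjective] at hF)
  exact (MulAut.congr e).injective (by rw [this, map_one])

theorem pRigid_of_le {U : Subgroup G} (hU : IsPGroup p U)
    (h : ∀ a : MulAut G, ¬ p ∣ orderOf a → ¬ p ∣ (fixAut a).index → U ≤ fixAut a → a = 1) :
    PRigid p G := by
  intro a ha hF
  obtain ⟨P, -, hP⟩ := exists_sylow_between hF IsPGroup.of_bot bot_le
  obtain ⟨g, hg⟩ := exists_map_conj_le_sylow hU P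
  have h1 : fixAut (MulAut.congr (MulAut.conj g⁻¹) a) = (fixAut a).comap (MulAut.conj g) := by
    ext x
    simp only [mem_fixAut, mem_comap, MonoidHom.coe_coe, MulAut.conj_apply, MulAut.congr_apply,
      MulEquiv.trans_apply, map_inv, MulAut.conj_inv_apply]
    rw [show (MulEquiv.symm (MulAut.conj g)⁻¹) x = g * x * g⁻¹ from rfl]
    constructor
    · intro h
      calc a (g * x * g⁻¹) = g * (g⁻¹ * a (g * x * g⁻¹) * g) * g⁻¹ := by group
        _ = _ := by rw [h]
    · intro h; rw [h]; group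
  have := h (MulAut.congr (MulAut.conj g⁻¹) a) (by rwa [MulEquiv.orderOf_eq])
    (by rwa [h1, index_comap_of_surjective _ (MulAut.conj g).surjective])
    (by rw [h1]; exact map_le_iff_le_comap.1 (hg.trans hP))
  exact (MulAut.congr (MulAut.conj g⁻¹)).injective (by rw [this, map_one])

theorem pRigid_quotient_center [IsSimpleGroup (H ⧸ center H)] {U : Subgroup H}
    (hU : IsPGroup p U) (h : ∀ F : Subgroup H, LocClosed p F → U ≤ F → F = ⊤) :
    PRigid p (H ⧸ center H) := by
  refine pRigid_of_le (hU.map (QuotientGroup.mk' _)) fun a ha hF hUF => ?_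
  have := h _ (locClosed_comap ha hF (QuotientGroup.mk'_surjective _) (QuotientGroup.ker_mk' _))
    (map_le_iff_le_comap.1 hUF)
  rw [← fixAut_eq_top, ← map_comap_eq_self_of_surjective (QuotientGroup.mk'_surjective _)
    (fixAut a), this, ← MonoidHom.range_eq_map,
    MonoidHom.range_eq_top.2 (QuotientGroup.mk'_surjective _)]

theorem pRigid_of_simple [IsSimpleGroup G] {U : Subgroup G} (hU : IsPGroup p U) (hU1 : U ≠ ⊥)
    (h : ∀ a : MulAut G, ¬ p ∣ orderOf a → LocClosed p (fixAut a) → U ≤ fixAut a →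
      fixAut a = ⊤) : PRigid p G := by
  refine pRigid_of_le hU fun a ha hF hUF => fixAut_eq_top.1 ?_
  rcases (inferInstance : (center G).Normal).eq_bot_or_eq_top with hZ | hZ
  · exact h a ha (locClosed_comap ha hF (π := MonoidHom.id G) Function.surjective_id
      (by rw [hZ, MonoidHom.ker_id])) hUF
  · have : U.Normal := ⟨fun n hn g => by
      rwa [mem_center_iff.1 (hZ ▸ mem_top n) g, mul_inv_cancel_right]⟩
    exact top_unique (this.eq_bot_or_eq_top.resolve_left hU1 ▸ hUF)

end Cfsg

set_option linter.all false in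
theorem Cfsg.Rz.Lie_Rigid_0 : True := by
  have := @_root_.Cfsg.LocClosed.mk.congr_simp.{0}
  have := @_root_.Cfsg.PRigid.eq_def.{0}
  have := @_root_.Cfsg.PRigid.eq_1.{0}
  have := @_root_.Cfsg.PRigid.fun_cases
  have := @_root_.Cfsg.fixAut.eq_def.{0}
  have := @_root_.Cfsg.fixAut.eq_1.{0}
  have := @_root_.Cfsg.fixAut.fun_cases
  trivial
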