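import Cfsg.Agent.Lie.Chev2BN
import Cfsg.Prelude.Def_ChevG2

/-!
# Tables for the Chevalley groups of type `G2` in characteristic `2` (generated)
-/

set_option autoImplicit false
set_option linter.style.longLine false
set_option maxRecDepth 100000

namespace Cfsg

open _root_.Cfsg.Lie

namespace Chev

/-- The chain table. -/
def tTG2 : ℕ := 0xb00000000000a00000900000700000000000000000000000000000000000000000c00000000000a00000000000800000000000600000000000000000000000c00000b000000000000000c00000b000000000c09050b080400000000000000000c000000000c000000000c0a0800000700000000070000000007050300000000000000000b000b000000000b0a0900000000000000000600060006040300000000000000000c00000000000000000900000000000000000000000500000000000000000200000b00000000000000000800000000000000000000000400000000000000000100000000000007090a00070000000700000000000002030400000000020000000200000000000006080a000000000600000000000006010305000000000100000000000001000000000000020509010408000000000200000100000000000000000002000001000000000000000000000007000000000005000000000003000000000001000000000000000000000000000000000000000006000004000003000000000002000000000000000000000000000000000000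

/-- The packed tables. -/
def tabG2 : Tab2 where
  l := 2
  n := 12
  w := 24
  T := tTG2
  Ng := 0x102030405060708090a0b
  Cm := 0x20301030201010203010302
  Hm := 0x10302030102020103020301
  S := 0xa0b090708050603040200010b060809040a010702030500
  al := 0x607
  Mt := 0x50403020101656566676869
  W := 0x10203040406060708090a05050a0908070606040403020100050504020304020501040203040203030306040205000601040200030303
  C := 0x400000000000000030000000000000002000000000000000100000000000000000000000000000000000000000000000000000000000000000000000000000000000000000000000000000000000000000000000000000000000000000000000900000000000000080000000000000007000000000000000600000000000000000000000000000005000000000000000000000000000000000000000000000000000000000000000000000000000000000000000000000000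
  c := 5
  reps := [(6, 7, [(7, 0, 1), (8, 1, 1), (9, 1, 2), (10, 1, 3)]), (6, 8, [(8, 0, 1)]), (6, 9, [(9, 0, 1)]), (6, 10, [(10, 0, 1), (11, 1, 1)]), (6, 11, [(11, 0, 1)]), (7, 6, [(6, 0, 1), (8, 1, 1), (9, 2, 1), (10, 3, 1), (11, 3, 2)]), (7, 8, [(8, 0, 1), (11, 1, 2), (10, 2, 1)]), (7, 9, [(9, 0, 1), (10, 1, 1)]), (7, 10, [(10, 0, 1)]), (7, 11, [(11, 0, 1)])]

theorem linkG2 : Link chevG2 tabG2.toTab :=
  link_of_check (by decide +kernel) (by decide +kernel) (by decide +kernel) (by decide +kernel)
    (by decide +kernel) (by decide +kernel)

theorem cRG2_0 : tabG2.cR 0 := by decide +kernel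

theorem wtG2_0 : IsWt chevG2 (tabG2.wt 0) 3 := isWt_of_check _ (by decide +kernel)

theorem cRG2_1 : tabG2.cR 1 := by decide +kernel

theorem wtG2_1 : IsWt chevG2 (tabG2.wt 1) 3 := isWt_of_check _ (by decide +kernel)

theorem cNG2 : ∀ i < tabG2.l, tabG2.cN i := by decide +kernel

theorem cCG2 : ∀ x ∈ tabG2.reps, tabG2.cC x := by decide +kernel

theorem okG2 : tabG2.R.OK :=
  ⟨by decide +kernel, by decide +kernel, by decide +kernel, by decide +kernel⟩

theorem certG2 : Cert chevG2 tabG2 where
  toLink := linkG2
  toOK := okG2
  wt i hi := by
    have : i < 2 := hi
    interval_cases i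
    exacts [wtG2_0, wtG2_1]
  wt0 := isWt_of_check _ (by decide +kernel)
  wt1 := isWt_of_check _ (by decide +kernel)
  ht := by decide +kernel
  ht' := by decide +kernel
  sm := by decide +kernel
  cA := by decide +kernel
  cB := by decide +kernel
  cD := by decide +kernel
  cN := cNG2
  cC := cCG2
  cR i hi := by
    have : i < 2 := hi
    interval_cases i
    exacts [cRG2_0, cRG2_1]

end Chev

end Cfsg

set_option linter.all false in
theorem Cfsg.Rz.Lie_TabG2_0 : True := by
  have := @_root_.Cfsg.Chev.tTG2.eq_def
  have := @_root_.Cfsg.Chev.tTG2.eq_1
  have := @_root_.Cfsg.Chev.tTG2.fun_cases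
  have := @_root_.Cfsg.Chev.tabG2.eq_def
  have := @_root_.Cfsg.Chev.tabG2.eq_1
  have := @_root_.Cfsg.Chev.tabG2.fun_cases
  trivial
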